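import Cfsg.Agent.Lib.TwistedE6Involutions.Rules
import Cfsg.Agent.Lib.Twisted.FixedU

/-!
The unipotent part of `²E₆(q)` in coordinates along the orbits: Levi part of type A₅ and radical.
-/

set_option autoImplicit false
set_option linter.all false
set_option maxRecDepth 20000
set_option maxHeartbeats 1000000

namespace CfsgLib.TwistedE6Involutions

open Cfsg.Lie CfsgLib.Chevalley CfsgLib.Twisted

variable {K : Type*} [Field K] [CharP K 2]

/-- The orbits, Levi part first. -/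
def ords : List Orb := [(36, [36, 56]), (37, [37, 42]), (38, [38, 57]), (39, [39]), (40, [40, 43]), (44, [44]), (41, [41, 58]), (45, [45, 59]), (60, [60]), (46, [46]), (47, [47]), (48, [48, 50]), (51, [51]), (49, [49, 61]), (53, [53]), (52, [52, 62]), (63, [63]), (54, [54, 64]), (65, [65]), (55, [55, 67]), (66, [66, 68]), (69, [69]), (70, [70]), (71, [71])]

theorem checkOrd_drop : ∀ i : Fin 24, checkOrd chevE6 graphSigmaE6 (ords.drop i) = true := by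
  decide +kernel

theorem mem_rest {S : List ℕ} {r : ℕ} (h : r ∈ S) (t : K) : X r t ∈ rootsU chevE6 K {r | r ∈ S} :=
  xG_mem_rootsU full.cert h t

/-- Membership of products of root elements in the group of the roots of the later orbits. -/
macro "e6_mem" : tactic => `(tactic|
  ((try simp only [D]); repeat' apply mul_mem;
   all_goals first | exact one_mem _ | exact mem_rest (List.mem_of_elem_eq_true (by rfl)) _))

theorem prodU_el1 (r : ℕ) (t : ℕ → K) : prodU full.cert [r] t = X r (t r) := by simp [prodU]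

theorem prodU_el2 (a b : ℕ) (t : ℕ → K) : prodU full.cert [a, b] t = D a b (t a) (t b) := by simp [prodU, D]

theorem peel {o : Orb} {O : List Orb} {i : ℕ} (hi : ords.drop i = o :: O) (hlt : i < 24) {a b : ℕ → K}
    {R R' : GL chevE6.Idx K} (hR : R ∈ rootsU chevE6 K {r | r ∈ orbRoots O})
    (hR' : R' ∈ rootsU chevE6 K {r | r ∈ orbRoots O})
    (h : prodU full.cert o.2 a * R = prodU full.cert o.2 b * R') : ∀ r ∈ o.2, a r = b r := by
  have ho : checkOrd chevE6 graphSigmaE6 (o :: O) = true := hi ▸ checkOrd_drop ⟨i, hlt⟩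
  refine decomp_unique full.toStd o O ho
    (conj_layer full.toStd o O ho (prodU_orbit_mem full.toStd o O ho a) hR)
    (conj_layer full.toStd o O ho (prodU_orbit_mem full.toStd o O ho b) hR') ?_
  show prodU full.cert o.2 a * R * (prodU full.cert o.2 a)⁻¹ * prodU full.cert o.2 a =
    prodU full.cert o.2 b * R' * (prodU full.cert o.2 b)⁻¹ * prodU full.cert o.2 b
  rw [inv_mul_cancel_right, inv_mul_cancel_right, h]

theorem peel1 {r : ℕ} {O : List Orb} {i : ℕ} (hi : ords.drop i = (r, [r]) :: O) {x y : K}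
    {R R' : GL chevE6.Idx K} (hR : R ∈ rootsU chevE6 K {r | r ∈ orbRoots O})
    (hR' : R' ∈ rootsU chevE6 K {r | r ∈ orbRoots O}) (h : X r x * R = X r y * R') : x = y ∧ R = R' := by
  have hlt : i < 24 := by
    by_contra hh
    rw [List.drop_eq_nil_of_le (by simp [ords]; omega)] at hi
    exact List.cons_ne_nil _ _ hi.symm
  have e : x = y := peel hi hlt (a := fun _ => x) (b := fun _ => y) hR hR'
    (by simpa [prodU_el1] using h) r (by simp)
  subst e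
  exact ⟨rfl, mul_left_cancel h⟩

theorem peel2 {r s : ℕ} {O : List Orb} {i : ℕ} (hi : ords.drop i = (r, [r, s]) :: O) {x x' y y' : K}
    {R R' : GL chevE6.Idx K} (hR : R ∈ rootsU chevE6 K {r | r ∈ orbRoots O})
    (hR' : R' ∈ rootsU chevE6 K {r | r ∈ orbRoots O}) (h : D r s x x' * R = D r s y y' * R') :
    x = y ∧ x' = y' ∧ R = R' := by
  have hlt : i < 24 := by
    by_contra hh
    rw [List.drop_eq_nil_of_le (by simp [ords]; omega)] at hi
    exact List.cons_ne_nil _ _ hi.symm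
  have hne : s ≠ r := by
    have ho : checkOrd chevE6 graphSigmaE6 ((r, [r, s]) :: O) = true := hi ▸ checkOrd_drop ⟨i, hlt⟩
    obtain ⟨h1, -⟩ := checkOrd_cons ho
    simp at h1
    omega
  have k := peel hi hlt (a := fun k => if k = r then x else x') (b := fun k => if k = r then y else y') hR hR'
    (by simpa [prodU_el2, hne] using h)
  obtain rfl : x = y := by simpa using k r (by simp)
  obtain rfl : x' = y' := by simpa [hne] using k s (by simp)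
  exact ⟨rfl, rfl, mul_left_cancel h⟩

theorem list_inj {x36 x56 x37 x42 x38 x57 x39 x40 x43 x44 x41 x58 x45 x59 x60 x46 x47 x48 x50 x51 x49 x61 x53 x52 x62 x63 x54 x64 x65 x55 x67 x66 x68 x69 x70 x71 y36 y56 y37 y42 y38 y57 y39 y40 y43 y44 y41 y58 y45 y59 y60 y46 y47 y48 y50 y51 y49 y61 y53 y52 y62 y63 y54 y64 y65 y55 y67 y66 y68 y69 y70 y71 : K}
    (h : D 36 56 x36 x56 * (D 37 42 x37 x42 * (D 38 57 x38 x57 * (X 39 x39 * (D 40 43 x40 x43 * (X 44 x44 * (D 41 58 x41 x58 * (D 45 59 x45 x59 * (X 60 x60 * (X 46 x46 * (X 47 x47 * (D 48 50 x48 x50 * (X 51 x51 * (D 49 61 x49 x61 * (X 53 x53 * (D 52 62 x52 x62 * (X 63 x63 * (D 54 64 x54 x64 * (X 65 x65 * (D 55 67 x55 x67 * (D 66 68 x66 x68 * (X 69 x69 * (X 70 x70 * (X 71 x71 * 1))))))))))))))))))))))) = D 36 56 y36 y56 * (D 37 42 y37 y42 * (D 38 57 y38 y57 * (X 39 y39 * (D 40 43 y40 y43 * (X 44 y44 * (D 41 58 y41 y58 * (D 45 59 y45 y59 * (X 60 y60 * (X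 46 y46 * (X 47 y47 * (D 48 50 y48 y50 * (X 51 y51 * (D 49 61 y49 y61 * (X 53 y53 * (D 52 62 y52 y62 * (X 63 y63 * (D 54 64 y54 y64 * (X 65 y65 * (D 55 67 y55 y67 * (D 66 68 y66 y68 * (X 69 y69 * (X 70 y70 * (X 71 y71 * 1)))))))))))))))))))))))) :
    x36 = y36 ∧ x56 = y56 ∧ x37 = y37 ∧ x42 = y42 ∧ x38 = y38 ∧ x57 = y57 ∧ x39 = y39 ∧ x40 = y40 ∧ x43 = y43 ∧ x44 = y44 ∧ x41 = y41 ∧ x58 = y58 ∧ x45 = y45 ∧ x59 = y59 ∧ x60 = y60 ∧ x46 = y46 ∧ x47 = y47 ∧ x48 = y48 ∧ x50 = y50 ∧ x51 = y51 ∧ x49 = y49 ∧ x61 = y61 ∧ x53 = y53 ∧ x52 = y52 ∧ x62 = y62 ∧ x63 = y63 ∧ x54 = y54 ∧ x64 = y64 ∧ x65 = y65 ∧ x55 = y55 ∧ x67 = y67 ∧ x66 = y66 ∧ x68 = y68 ∧ x69 = y69 ∧ x70 = y70 ∧ x71 = y71 := by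
  obtain ⟨e36, e56, h⟩ := peel2 (i := 0) rfl (by e6_mem) (by e6_mem) h
  obtain ⟨e37, e42, h⟩ := peel2 (i := 1) rfl (by e6_mem) (by e6_mem) h
  obtain ⟨e38, e57, h⟩ := peel2 (i := 2) rfl (by e6_mem) (by e6_mem) h
  obtain ⟨e39, h⟩ := peel1 (i := 3) rfl (by e6_mem) (by e6_mem) h
  obtain ⟨e40, e43, h⟩ := peel2 (i := 4) rfl (by e6_mem) (by e6_mem) h
  obtain ⟨e44, h⟩ := peel1 (i := 5) rfl (by e6_mem) (by e6_mem) h
  obtain ⟨e41, e58, h⟩ := peel2 (i := 6) rfl (by e6_mem) (by e6_mem) h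
  obtain ⟨e45, e59, h⟩ := peel2 (i := 7) rfl (by e6_mem) (by e6_mem) h
  obtain ⟨e60, h⟩ := peel1 (i := 8) rfl (by e6_mem) (by e6_mem) h
  obtain ⟨e46, h⟩ := peel1 (i := 9) rfl (by e6_mem) (by e6_mem) h
  obtain ⟨e47, h⟩ := peel1 (i := 10) rfl (by e6_mem) (by e6_mem) h
  obtain ⟨e48, e50, h⟩ := peel2 (i := 11) rfl (by e6_mem) (by e6_mem) h
  obtain ⟨e51, h⟩ := peel1 (i := 12) rfl (by e6_mem) (by e6_mem) h
  obtain ⟨e49, e61, h⟩ := peel2 (i := 13) rfl (by e6_mem) (by e6_mem) h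
  obtain ⟨e53, h⟩ := peel1 (i := 14) rfl (by e6_mem) (by e6_mem) h
  obtain ⟨e52, e62, h⟩ := peel2 (i := 15) rfl (by e6_mem) (by e6_mem) h
  obtain ⟨e63, h⟩ := peel1 (i := 16) rfl (by e6_mem) (by e6_mem) h
  obtain ⟨e54, e64, h⟩ := peel2 (i := 17) rfl (by e6_mem) (by e6_mem) h
  obtain ⟨e65, h⟩ := peel1 (i := 18) rfl (by e6_mem) (by e6_mem) h
  obtain ⟨e55, e67, h⟩ := peel2 (i := 19) rfl (by e6_mem) (by e6_mem) h
  obtain ⟨e66, e68, h⟩ := peel2 (i := 20) rfl (by e6_mem) (by e6_mem) h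
  obtain ⟨e69, h⟩ := peel1 (i := 21) rfl (by e6_mem) (by e6_mem) h
  obtain ⟨e70, h⟩ := peel1 (i := 22) rfl (by e6_mem) (by e6_mem) h
  obtain ⟨e71, h⟩ := peel1 (i := 23) rfl (by e6_mem) (by e6_mem) h
  exact ⟨e36, e56, e37, e42, e38, e57, e39, e40, e43, e44, e41, e58, e45, e59, e60, e46, e47, e48, e50, e51, e49, e61, e53, e52, e62, e63, e54, e64, e65, e55, e67, e66, e68, e69, e70, e71⟩

theorem list_congr {x36 x56 x37 x42 x38 x57 x39 x40 x43 x44 x41 x58 x45 x59 x60 x46 x47 x48 x50 x51 x49 x61 x53 x52 x62 x63 x54 x64 x65 x55 x67 x66 x68 x69 x70 x71 y36 y56 y37 y42 y38 y57 y39 y40 y43 y44 y41 y58 y45 y59 y60 y46 y47 y48 y50 y51 y49 y61 y53 y52 y62 y63 y54 y64 y65 y55 y67 y66 y68 y69 y70 y71 : K} (h36 : x36 = y36) (h56 : x56 = y56) (h37 : x37 = y37) (h42 : x42 = y42) (h38 : x38 = y38) (h57 : x57 = y57) (h39 : x39 = y39) (h40 : x40 = y40) (h43 : x43 = y43) (h44 : x44 = y44) (h41 : x41 = y41) (h58 :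 x58 = y58) (h45 : x45 = y45) (h59 : x59 = y59) (h60 : x60 = y60) (h46 : x46 = y46) (h47 : x47 = y47) (h48 : x48 = y48) (h50 : x50 = y50) (h51 : x51 = y51) (h49 : x49 = y49) (h61 : x61 = y61) (h53 : x53 = y53) (h52 : x52 = y52) (h62 : x62 = y62) (h63 : x63 = y63) (h54 : x54 = y54) (h64 : x64 = y64) (h65 : x65 = y65) (h55 : x55 = y55) (h67 : x67 = y67) (h66 : x66 = y66) (h68 : x68 = y68) (h69 : x69 = y69) (h70 : x70 = y70) (h71 : x71 = y71) :
    D 36 56 x36 x56 * (D 37 42 x37 x42 * (D 38 57 x38 x57 * (X 39 x39 * (D 40 43 x40 x43 * (X 44 x44 * (D 41 58 x41 x58 * (D 45 59 x45 x59 * (X 60 x60 * (X 46 x46 * (X 47 x47 * (D 48 50 x48 x50 * (X 51 x51 * (D 49 61 x49 x61 * (X 53 x53 * (D 52 62 x52 x62 * (X 63 x63 * (D 54 64 x54 x64 * (X 65 x65 * (D 55 67 x55 x67 * (D 66 68 x66 x68 * (X 69 x69 * (X 70 x70 * (X 71 x71 * 1))))))))))))))))))))))) = D 36 56 y36 y56 * (D 37 42 y37 y42 * (D 38 57 y38 y57 * (X 39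 y39 * (D 40 43 y40 y43 * (X 44 y44 * (D 41 58 y41 y58 * (D 45 59 y45 y59 * (X 60 y60 * (X 46 y46 * (X 47 y47 * (D 48 50 y48 y50 * (X 51 y51 * (D 49 61 y49 y61 * (X 53 y53 * (D 52 62 y52 y62 * (X 63 y63 * (D 54 64 y54 y64 * (X 65 y65 * (D 55 67 y55 y67 * (D 66 68 y66 y68 * (X 69 y69 * (X 70 y70 * (X 71 y71 * 1))))))))))))))))))))))) := by
  subst_vars; rfl

/-- All orbits with coefficients zero; appended so that normal forms mention every orbit. -/
noncomputable def padding : GL chevE6.Idx K :=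
  D 36 56 (0 : K) (0 : K) * (D 37 42 (0 : K) (0 : K) * (D 38 57 (0 : K) (0 : K) * (X 39 (0 : K) * (D 40 43 (0 : K) (0 : K) * (X 44 (0 : K) * (D 41 58 (0 : K) (0 : K) * (D 45 59 (0 : K) (0 : K) * (X 60 (0 : K) * (X 46 (0 : K) * (X 47 (0 : K) * (D 48 50 (0 : K) (0 : K) * (X 51 (0 : K) * (D 49 61 (0 : K) (0 : K) * (X 53 (0 : K) * (D 52 62 (0 : K) (0 : K) * (X 63 (0 : K) * (D 54 64 (0 : K) (0 : K) * (X 65 (0 : K) * (D 55 67 (0 : K) (0 : K) * (D 66 68 (0 : K) (0 : K) * (X 69 (0 : K) * (X 70 (0 : K) * (X 71 (0 : K) * 1)))))))))))))))))))))))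

theorem padding_eq : (padding : GL chevE6.Idx K) = 1 := by
  simp [padding, D, xG_zero]

theorem mul_padding {g g' : GL chevE6.Idx K} (h : g = g') : g * padding = g' * padding := by rw [h]

variable (σ : K →+* K)

/-- An element of the Levi part of `U`. -/
noncomputable def UL (c2 c3 c5 c0 c6 c7 c8 c11 c14 : K) : GL chevE6.Idx K :=
  D 36 56 c2 (σ c2) * D 37 42 c3 (σ c3) * D 38 57 c5 (σ c5) * X 39 c0 * D 40 43 c6 (σ c6) * X 44 c7 * D 41 58 c8 (σ c8) * D 45 59 c11 (σ c11) * X 60 c14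

/-- An element of the radical. -/
noncomputable def Q (c1 c4 c9 c10 c12 c13 c15 c16 c17 c18 c19 c20 c21 c22 c23 : K) : GL chevE6.Idx K :=
  X 46 c1 * X 47 c4 * D 48 50 c9 (σ c9) * X 51 c10 * D 49 61 c12 (σ c12) * X 53 c13 * D 52 62 c15 (σ c15) * X 63 c16 * D 54 64 c17 (σ c17) * X 65 c18 * D 55 67 c19 (σ c19) * D 66 68 c20 (σ c20) * X 69 c21 * X 70 c22 * X 71 c23

/-- Turn an equation in `U` into the equations of the coefficients. -/
macro "e6_coords_at" h:ident : tactic => `(tactic|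
  ((try simp only [UL, Q, map_zero, map_one] at $h:ident); replace $h := mul_padding $h;
   simp only [padding] at $h:ident; e6_norm_at $h; replace $h := list_inj $h))

/-- Prove an equation in `U` coefficient by coefficient. -/
macro "e6_eq" : tactic => `(tactic|
  ((try simp only [UL, Q, map_zero, map_one]); refine mul_right_cancel (b := padding) ?_;
   simp only [padding]; e6_norm; refine list_congr ?_ ?_ ?_ ?_ ?_ ?_ ?_ ?_ ?_ ?_ ?_ ?_ ?_ ?_ ?_ ?_ ?_ ?_ ?_ ?_ ?_ ?_ ?_ ?_ ?_ ?_ ?_ ?_ ?_ ?_ ?_ ?_ ?_ ?_ ?_ ?_))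

theorem D_zero (a b : ℕ) : D a b (0 : K) 0 = 1 := by simp [D, xG_zero]

end CfsgLib.TwistedE6Involutions
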