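import Cfsg.Agent.Lib.TwistedE6Involutions.Coord
import Cfsg.Agent.Lib.Twisted.TwistedBN
import Cfsg.Agent.Lib.OutAut.ChevSylow

/-!
`²E₆(q)`, `q` even: orbit elements, the monomial elements of the fundamental orbits, coordinates of `U¹`.
-/

set_option autoImplicit false
set_option linter.all false
set_option maxRecDepth 20000
set_option maxHeartbeats 1000000

namespace CfsgLib.TwistedE6Involutions

open Cfsg.Lie CfsgLib.Chevalley CfsgLib.Twisted

variable {K : Type*} [Field K] [CharP K 2]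

theorem conj_mul' {G : Type*} [Group G] (n x y : G) : n * (x * y) * n⁻¹ = n * x * n⁻¹ * (n * y * n⁻¹) := by
  group

theorem pair_mul {G : Type*} [Group G] {a b c d : G} (h1 : Commute a c) (h2 : Commute b c)
    (h3 : Commute a d) : a * b * a * (c * d * c) = a * c * (b * d) * (a * c) :=
  calc a * b * a * (c * d * c) = a * b * (a * c) * d * c := by group
    _ = a * (b * c) * (a * d) * c := by rw [h1.eq]; group
    _ = a * c * (b * d) * (a * c) := by rw [h2.eq, h3.eq]; group

theorem conj_simple_pow (i : Fin chevE6.rank) {r r' : ℕ} {k : ℤ} (hr : r < chevE6.nroots)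
    (h : chevE6.reflectRoot i r = r') (hk : -chevE6.cartan i r = k) {u : K} (hu : u ≠ 0) (t : K) :
    nG full.cert (chevE6.simple i) u * X r t * (nG full.cert (chevE6.simple i) u)⁻¹ = X r' (u ^ k * t) := by
  subst h hk
  show nG full.cert (chevE6.simple i) u * X ((⟨r, hr⟩ : Fin chevE6.nroots) : ℕ) t *
    (nG full.cert (chevE6.simple i) u)⁻¹ = _
  rw [(acts_nG_simple (F := K) full i hu).conj]
  rcases (refl_spec full.cert i.isLt hr).1 with e | e <;> rw [e] <;> simp [CharTwo.neg_eq, rf]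

theorem conj_simple (i : Fin chevE6.rank) {r r' : ℕ} (hr : r < chevE6.nroots)
    (h : chevE6.reflectRoot i r = r') (t : K) :
    nG full.cert (chevE6.simple i) 1 * X r t * (nG full.cert (chevE6.simple i) 1)⁻¹ = X r' t := by
  rw [conj_simple_pow i hr h rfl one_ne_zero, one_zpow, one_mul]

theorem isPos {r : ℕ} (h : decide (36 ≤ r ∧ r < 72) = true) : chevE6.IsPosRoot r := by
  rw [full.pos.isPos_iff]
  simpa [chevE6, auxE6] using h

/-- The monomial element of the fixed node 2. -/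
noncomputable def w1 : GL chevE6.Idx K := nG full.cert 46 1

/-- The monomial element of the fixed node 4. -/
noncomputable def w0 : GL chevE6.Idx K := nG full.cert 39 1

/-- The monomial element of the pair of nodes 1, 6. -/
noncomputable def w2 : GL chevE6.Idx K := nG full.cert 36 1 * nG full.cert 56 1

/-- The monomial element of the pair of nodes 3, 5. -/
noncomputable def w3 : GL chevE6.Idx K := nG full.cert 37 1 * nG full.cert 42 1

/-- One reflection sends a root to another. -/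
def moveOne (i r r' : ℕ) : Bool := decide (r < chevE6.nroots) && (chevE6.reflectRoot i r == r')

/-- Two reflections send a root to another. -/
def moveTwo (i j r r' : ℕ) : Bool :=
  decide (r < chevE6.nroots) && decide (chevE6.reflectRoot i r < chevE6.nroots) &&
    (chevE6.reflectRoot j (chevE6.reflectRoot i r) == r')

theorem w1_move {r r' : ℕ} (h : moveOne 1 r r' = true) (t : K) : w1 * X r t * w1⁻¹ = X r' t := by
  simp only [moveOne, Bool.and_eq_true, decide_eq_true_eq, beq_iff_eq] at h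
  exact conj_simple (K := K) ⟨1, by decide⟩ h.1 h.2 t

theorem w0_move {r r' : ℕ} (h : moveOne 3 r r' = true) (t : K) : w0 * X r t * w0⁻¹ = X r' t := by
  simp only [moveOne, Bool.and_eq_true, decide_eq_true_eq, beq_iff_eq] at h
  exact conj_simple (K := K) ⟨3, by decide⟩ h.1 h.2 t

theorem w2_move {r r' : ℕ} (h : moveTwo 0 5 r r' = true) (t : K) : w2 * X r t * w2⁻¹ = X r' t := by
  simp only [moveTwo, Bool.and_eq_true, decide_eq_true_eq, beq_iff_eq] at h
  have e1 := conj_simple (K := K) ⟨0, by decide⟩ h.1.1 rfl t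
  have e2 := conj_simple (K := K) ⟨5, by decide⟩ h.1.2 h.2 t
  rw [show chevE6.simple ((⟨0, by decide⟩ : Fin chevE6.rank) : ℕ) = 56 from rfl] at e1
  rw [show chevE6.simple ((⟨5, by decide⟩ : Fin chevE6.rank) : ℕ) = 36 from rfl] at e2
  rw [w2, ← e2, ← e1]
  group

theorem w3_move {r r' : ℕ} (h : moveTwo 2 4 r r' = true) (t : K) : w3 * X r t * w3⁻¹ = X r' t := by
  simp only [moveTwo, Bool.and_eq_true, decide_eq_true_eq, beq_iff_eq] at h
  have e1 := conj_simple (K := K) ⟨2, by decide⟩ h.1.1 rfl t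
  have e2 := conj_simple (K := K) ⟨4, by decide⟩ h.1.2 h.2 t
  rw [show chevE6.simple ((⟨2, by decide⟩ : Fin chevE6.rank) : ℕ) = 42 from rfl] at e1
  rw [show chevE6.simple ((⟨4, by decide⟩ : Fin chevE6.rank) : ℕ) = 37 from rfl] at e2
  rw [w3, ← e2, ← e1]
  group

theorem w1_0 (t : K) : w1 * X 39 t * w1⁻¹ = X 47 t :=
  w1_move (by decide +kernel) t

theorem w1_2 (u w : K) : w1 * D 36 56 u w * w1⁻¹ = D 36 56 u w := by
  simp only [D]
  rw [conj_mul', w1_move (r' := 36) (by decide +kernel), w1_move (r' := 56) (by decide +kernel)]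

theorem w1_3 (u w : K) : w1 * D 37 42 u w * w1⁻¹ = D 37 42 u w := by
  simp only [D]
  rw [conj_mul', w1_move (r' := 37) (by decide +kernel), w1_move (r' := 42) (by decide +kernel)]

theorem w1_4 (t : K) : w1 * X 47 t * w1⁻¹ = X 39 t :=
  w1_move (by decide +kernel) t

theorem w1_5 (u w : K) : w1 * D 38 57 u w * w1⁻¹ = D 38 57 u w := by
  simp only [D]
  rw [conj_mul', w1_move (r' := 38) (by decide +kernel), w1_move (r' := 57) (by decide +kernel)]

theorem w1_6 (u w : K) : w1 * D 40 43 u w * w1⁻¹ = D 48 50 u w := by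
  simp only [D]
  rw [conj_mul', w1_move (r' := 48) (by decide +kernel), w1_move (r' := 50) (by decide +kernel)]

theorem w1_7 (t : K) : w1 * X 44 t * w1⁻¹ = X 51 t :=
  w1_move (by decide +kernel) t

theorem w1_8 (u w : K) : w1 * D 41 58 u w * w1⁻¹ = D 49 61 u w := by
  simp only [D]
  rw [conj_mul', w1_move (r' := 49) (by decide +kernel), w1_move (r' := 61) (by decide +kernel)]

theorem w1_9 (u w : K) : w1 * D 48 50 u w * w1⁻¹ = D 40 43 u w := by
  simp only [D]
  rw [conj_mul', w1_move (r' := 40) (by decide +kernel), w1_move (r' := 43) (by decide +kernel)]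

theorem w1_10 (t : K) : w1 * X 51 t * w1⁻¹ = X 44 t :=
  w1_move (by decide +kernel) t

theorem w1_11 (u w : K) : w1 * D 45 59 u w * w1⁻¹ = D 52 62 u w := by
  simp only [D]
  rw [conj_mul', w1_move (r' := 52) (by decide +kernel), w1_move (r' := 62) (by decide +kernel)]

theorem w1_12 (u w : K) : w1 * D 49 61 u w * w1⁻¹ = D 41 58 u w := by
  simp only [D]
  rw [conj_mul', w1_move (r' := 41) (by decide +kernel), w1_move (r' := 58) (by decide +kernel)]

theorem w1_13 (t : K) : w1 * X 53 t * w1⁻¹ = X 53 t :=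
  w1_move (by decide +kernel) t

theorem w1_14 (t : K) : w1 * X 60 t * w1⁻¹ = X 63 t :=
  w1_move (by decide +kernel) t

theorem w1_15 (u w : K) : w1 * D 52 62 u w * w1⁻¹ = D 45 59 u w := by
  simp only [D]
  rw [conj_mul', w1_move (r' := 45) (by decide +kernel), w1_move (r' := 59) (by decide +kernel)]

theorem w1_16 (t : K) : w1 * X 63 t * w1⁻¹ = X 60 t :=
  w1_move (by decide +kernel) t

theorem w1_17 (u w : K) : w1 * D 54 64 u w * w1⁻¹ = D 54 64 u w := by
  simp only [D]
  rw [conj_mul', w1_move (r' := 54) (by decide +kernel), w1_move (r' := 64) (by decide +kernel)]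

theorem w1_18 (t : K) : w1 * X 65 t * w1⁻¹ = X 65 t :=
  w1_move (by decide +kernel) t

theorem w1_19 (u w : K) : w1 * D 55 67 u w * w1⁻¹ = D 55 67 u w := by
  simp only [D]
  rw [conj_mul', w1_move (r' := 55) (by decide +kernel), w1_move (r' := 67) (by decide +kernel)]

theorem w1_20 (u w : K) : w1 * D 66 68 u w * w1⁻¹ = D 66 68 u w := by
  simp only [D]
  rw [conj_mul', w1_move (r' := 66) (by decide +kernel), w1_move (r' := 68) (by decide +kernel)]

theorem w1_21 (t : K) : w1 * X 69 t * w1⁻¹ = X 69 t :=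
  w1_move (by decide +kernel) t

theorem w1_22 (t : K) : w1 * X 70 t * w1⁻¹ = X 71 t :=
  w1_move (by decide +kernel) t

theorem w1_23 (t : K) : w1 * X 71 t * w1⁻¹ = X 70 t :=
  w1_move (by decide +kernel) t

theorem w0_1 (t : K) : w0 * X 46 t * w0⁻¹ = X 47 t :=
  w0_move (by decide +kernel) t

theorem w0_2 (u w : K) : w0 * D 36 56 u w * w0⁻¹ = D 36 56 u w := by
  simp only [D]
  rw [conj_mul', w0_move (r' := 36) (by decide +kernel), w0_move (r' := 56) (by decide +kernel)]

theorem w0_3 (u w : K) : w0 * D 37 42 u w * w0⁻¹ = D 40 43 u w := by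
  simp only [D]
  rw [conj_mul', w0_move (r' := 40) (by decide +kernel), w0_move (r' := 43) (by decide +kernel)]

theorem w0_4 (t : K) : w0 * X 47 t * w0⁻¹ = X 46 t :=
  w0_move (by decide +kernel) t

theorem w0_5 (u w : K) : w0 * D 38 57 u w * w0⁻¹ = D 41 58 u w := by
  simp only [D]
  rw [conj_mul', w0_move (r' := 41) (by decide +kernel), w0_move (r' := 58) (by decide +kernel)]

theorem w0_6 (u w : K) : w0 * D 40 43 u w * w0⁻¹ = D 37 42 u w := by
  simp only [D]
  rw [conj_mul', w0_move (r' := 37) (by decide +kernel), w0_move (r' := 42) (by decide +kernel)]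

theorem w0_7 (t : K) : w0 * X 44 t * w0⁻¹ = X 44 t :=
  w0_move (by decide +kernel) t

theorem w0_8 (u w : K) : w0 * D 41 58 u w * w0⁻¹ = D 38 57 u w := by
  simp only [D]
  rw [conj_mul', w0_move (r' := 38) (by decide +kernel), w0_move (r' := 57) (by decide +kernel)]

theorem w0_9 (u w : K) : w0 * D 48 50 u w * w0⁻¹ = D 48 50 u w := by
  simp only [D]
  rw [conj_mul', w0_move (r' := 48) (by decide +kernel), w0_move (r' := 50) (by decide +kernel)]

theorem w0_10 (t : K) : w0 * X 51 t * w0⁻¹ = X 53 t :=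
  w0_move (by decide +kernel) t

theorem w0_11 (u w : K) : w0 * D 45 59 u w * w0⁻¹ = D 45 59 u w := by
  simp only [D]
  rw [conj_mul', w0_move (r' := 45) (by decide +kernel), w0_move (r' := 59) (by decide +kernel)]

theorem w0_12 (u w : K) : w0 * D 49 61 u w * w0⁻¹ = D 49 61 u w := by
  simp only [D]
  rw [conj_mul', w0_move (r' := 49) (by decide +kernel), w0_move (r' := 61) (by decide +kernel)]

theorem w0_13 (t : K) : w0 * X 53 t * w0⁻¹ = X 51 t :=
  w0_move (by decide +kernel) t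

theorem w0_14 (t : K) : w0 * X 60 t * w0⁻¹ = X 60 t :=
  w0_move (by decide +kernel) t

theorem w0_15 (u w : K) : w0 * D 52 62 u w * w0⁻¹ = D 54 64 u w := by
  simp only [D]
  rw [conj_mul', w0_move (r' := 54) (by decide +kernel), w0_move (r' := 64) (by decide +kernel)]

theorem w0_16 (t : K) : w0 * X 63 t * w0⁻¹ = X 65 t :=
  w0_move (by decide +kernel) t

theorem w0_17 (u w : K) : w0 * D 54 64 u w * w0⁻¹ = D 52 62 u w := by
  simp only [D]
  rw [conj_mul', w0_move (r' := 52) (by decide +kernel), w0_move (r' := 62) (by decide +kernel)]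

theorem w0_18 (t : K) : w0 * X 65 t * w0⁻¹ = X 63 t :=
  w0_move (by decide +kernel) t

theorem w0_19 (u w : K) : w0 * D 55 67 u w * w0⁻¹ = D 55 67 u w := by
  simp only [D]
  rw [conj_mul', w0_move (r' := 55) (by decide +kernel), w0_move (r' := 67) (by decide +kernel)]

theorem w0_20 (u w : K) : w0 * D 66 68 u w * w0⁻¹ = D 66 68 u w := by
  simp only [D]
  rw [conj_mul', w0_move (r' := 66) (by decide +kernel), w0_move (r' := 68) (by decide +kernel)]

theorem w0_21 (t : K) : w0 * X 69 t * w0⁻¹ = X 70 t :=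
  w0_move (by decide +kernel) t

theorem w0_22 (t : K) : w0 * X 70 t * w0⁻¹ = X 69 t :=
  w0_move (by decide +kernel) t

theorem w0_23 (t : K) : w0 * X 71 t * w0⁻¹ = X 71 t :=
  w0_move (by decide +kernel) t

theorem w2_0 (t : K) : w2 * X 39 t * w2⁻¹ = X 39 t :=
  w2_move (by decide +kernel) t

theorem w2_1 (t : K) : w2 * X 46 t * w2⁻¹ = X 46 t :=
  w2_move (by decide +kernel) t

theorem w2_3 (u w : K) : w2 * D 37 42 u w * w2⁻¹ = D 38 57 u w := by
  simp only [D]
  rw [conj_mul', w2_move (r' := 38) (by decide +kernel), w2_move (r' := 57) (by decide +kernel)]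

theorem w2_4 (t : K) : w2 * X 47 t * w2⁻¹ = X 47 t :=
  w2_move (by decide +kernel) t

theorem w2_5 (u w : K) : w2 * D 38 57 u w * w2⁻¹ = D 37 42 u w := by
  simp only [D]
  rw [conj_mul', w2_move (r' := 37) (by decide +kernel), w2_move (r' := 42) (by decide +kernel)]

theorem w2_6 (u w : K) : w2 * D 40 43 u w * w2⁻¹ = D 41 58 u w := by
  simp only [D]
  rw [conj_mul', w2_move (r' := 41) (by decide +kernel), w2_move (r' := 58) (by decide +kernel)]

theorem w2_7 (t : K) : w2 * X 44 t * w2⁻¹ = X 60 t :=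
  w2_move (by decide +kernel) t

theorem w2_8 (u w : K) : w2 * D 41 58 u w * w2⁻¹ = D 40 43 u w := by
  simp only [D]
  rw [conj_mul', w2_move (r' := 40) (by decide +kernel), w2_move (r' := 43) (by decide +kernel)]

theorem w2_9 (u w : K) : w2 * D 48 50 u w * w2⁻¹ = D 49 61 u w := by
  simp only [D]
  rw [conj_mul', w2_move (r' := 49) (by decide +kernel), w2_move (r' := 61) (by decide +kernel)]

theorem w2_10 (t : K) : w2 * X 51 t * w2⁻¹ = X 63 t :=
  w2_move (by decide +kernel) t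

theorem w2_11 (u w : K) : w2 * D 45 59 u w * w2⁻¹ = D 45 59 w u := by
  simp only [D]
  rw [conj_mul', w2_move (r' := 59) (by decide +kernel), w2_move (r' := 45) (by decide +kernel)]
  exact (commute_X (r := 59) (s := 45) (by decide +kernel) u w).eq

theorem w2_12 (u w : K) : w2 * D 49 61 u w * w2⁻¹ = D 48 50 u w := by
  simp only [D]
  rw [conj_mul', w2_move (r' := 48) (by decide +kernel), w2_move (r' := 50) (by decide +kernel)]

theorem w2_13 (t : K) : w2 * X 53 t * w2⁻¹ = X 65 t :=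
  w2_move (by decide +kernel) t

theorem w2_14 (t : K) : w2 * X 60 t * w2⁻¹ = X 44 t :=
  w2_move (by decide +kernel) t

theorem w2_15 (u w : K) : w2 * D 52 62 u w * w2⁻¹ = D 52 62 w u := by
  simp only [D]
  rw [conj_mul', w2_move (r' := 62) (by decide +kernel), w2_move (r' := 52) (by decide +kernel)]
  exact (commute_X (r := 62) (s := 52) (by decide +kernel) u w).eq

theorem w2_16 (t : K) : w2 * X 63 t * w2⁻¹ = X 51 t :=
  w2_move (by decide +kernel) t

theorem w2_17 (u w : K) : w2 * D 54 64 u w * w2⁻¹ = D 54 64 w u := by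
  simp only [D]
  rw [conj_mul', w2_move (r' := 64) (by decide +kernel), w2_move (r' := 54) (by decide +kernel)]
  exact (commute_X (r := 64) (s := 54) (by decide +kernel) u w).eq

theorem w2_18 (t : K) : w2 * X 65 t * w2⁻¹ = X 53 t :=
  w2_move (by decide +kernel) t

theorem w2_19 (u w : K) : w2 * D 55 67 u w * w2⁻¹ = D 66 68 u w := by
  simp only [D]
  rw [conj_mul', w2_move (r' := 66) (by decide +kernel), w2_move (r' := 68) (by decide +kernel)]

theorem w2_20 (u w : K) : w2 * D 66 68 u w * w2⁻¹ = D 55 67 u w := by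
  simp only [D]
  rw [conj_mul', w2_move (r' := 55) (by decide +kernel), w2_move (r' := 67) (by decide +kernel)]

theorem w2_21 (t : K) : w2 * X 69 t * w2⁻¹ = X 69 t :=
  w2_move (by decide +kernel) t

theorem w2_22 (t : K) : w2 * X 70 t * w2⁻¹ = X 70 t :=
  w2_move (by decide +kernel) t

theorem w2_23 (t : K) : w2 * X 71 t * w2⁻¹ = X 71 t :=
  w2_move (by decide +kernel) t

theorem w3_0 (t : K) : w3 * X 39 t * w3⁻¹ = X 44 t :=
  w3_move (by decide +kernel) t

theorem w3_1 (t : K) : w3 * X 46 t * w3⁻¹ = X 46 t :=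
  w3_move (by decide +kernel) t

theorem w3_2 (u w : K) : w3 * D 36 56 u w * w3⁻¹ = D 38 57 u w := by
  simp only [D]
  rw [conj_mul', w3_move (r' := 38) (by decide +kernel), w3_move (r' := 57) (by decide +kernel)]

theorem w3_4 (t : K) : w3 * X 47 t * w3⁻¹ = X 51 t :=
  w3_move (by decide +kernel) t

theorem w3_5 (u w : K) : w3 * D 38 57 u w * w3⁻¹ = D 36 56 u w := by
  simp only [D]
  rw [conj_mul', w3_move (r' := 36) (by decide +kernel), w3_move (r' := 56) (by decide +kernel)]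

theorem w3_6 (u w : K) : w3 * D 40 43 u w * w3⁻¹ = D 40 43 w u := by
  simp only [D]
  rw [conj_mul', w3_move (r' := 43) (by decide +kernel), w3_move (r' := 40) (by decide +kernel)]
  exact (commute_X (r := 43) (s := 40) (by decide +kernel) u w).eq

theorem w3_7 (t : K) : w3 * X 44 t * w3⁻¹ = X 39 t :=
  w3_move (by decide +kernel) t

theorem w3_8 (u w : K) : w3 * D 41 58 u w * w3⁻¹ = D 45 59 u w := by
  simp only [D]
  rw [conj_mul', w3_move (r' := 45) (by decide +kernel), w3_move (r' := 59) (by decide +kernel)]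

theorem w3_9 (u w : K) : w3 * D 48 50 u w * w3⁻¹ = D 48 50 w u := by
  simp only [D]
  rw [conj_mul', w3_move (r' := 50) (by decide +kernel), w3_move (r' := 48) (by decide +kernel)]
  exact (commute_X (r := 50) (s := 48) (by decide +kernel) u w).eq

theorem w3_10 (t : K) : w3 * X 51 t * w3⁻¹ = X 47 t :=
  w3_move (by decide +kernel) t

theorem w3_11 (u w : K) : w3 * D 45 59 u w * w3⁻¹ = D 41 58 u w := by
  simp only [D]
  rw [conj_mul', w3_move (r' := 41) (by decide +kernel), w3_move (r' := 58) (by decide +kernel)]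

theorem w3_12 (u w : K) : w3 * D 49 61 u w * w3⁻¹ = D 52 62 u w := by
  simp only [D]
  rw [conj_mul', w3_move (r' := 52) (by decide +kernel), w3_move (r' := 62) (by decide +kernel)]

theorem w3_13 (t : K) : w3 * X 53 t * w3⁻¹ = X 53 t :=
  w3_move (by decide +kernel) t

theorem w3_14 (t : K) : w3 * X 60 t * w3⁻¹ = X 60 t :=
  w3_move (by decide +kernel) t

theorem w3_15 (u w : K) : w3 * D 52 62 u w * w3⁻¹ = D 49 61 u w := by
  simp only [D]
  rw [conj_mul', w3_move (r' := 49) (by decide +kernel), w3_move (r' := 61) (by decide +kernel)]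

theorem w3_16 (t : K) : w3 * X 63 t * w3⁻¹ = X 63 t :=
  w3_move (by decide +kernel) t

theorem w3_17 (u w : K) : w3 * D 54 64 u w * w3⁻¹ = D 55 67 u w := by
  simp only [D]
  rw [conj_mul', w3_move (r' := 55) (by decide +kernel), w3_move (r' := 67) (by decide +kernel)]

theorem w3_18 (t : K) : w3 * X 65 t * w3⁻¹ = X 69 t :=
  w3_move (by decide +kernel) t

theorem w3_19 (u w : K) : w3 * D 55 67 u w * w3⁻¹ = D 54 64 u w := by
  simp only [D]
  rw [conj_mul', w3_move (r' := 54) (by decide +kernel), w3_move (r' := 64) (by decide +kernel)]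

theorem w3_20 (u w : K) : w3 * D 66 68 u w * w3⁻¹ = D 66 68 w u := by
  simp only [D]
  rw [conj_mul', w3_move (r' := 68) (by decide +kernel), w3_move (r' := 66) (by decide +kernel)]
  exact (commute_X (r := 68) (s := 66) (by decide +kernel) u w).eq

theorem w3_21 (t : K) : w3 * X 69 t * w3⁻¹ = X 65 t :=
  w3_move (by decide +kernel) t

theorem w3_22 (t : K) : w3 * X 70 t * w3⁻¹ = X 70 t :=
  w3_move (by decide +kernel) t

theorem w3_23 (t : K) : w3 * X 71 t * w3⁻¹ = X 71 t :=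
  w3_move (by decide +kernel) t


/-- The data of `²E₆(q)` in characteristic two. -/
structure Setting (σ : K →+* K) (q : ℕ) : Prop where
  /-- a prime power -/
  pp : IsPrimePow q
  /-- the field -/
  card : Nat.card K = q ^ 2
  /-- the field automorphism -/
  pow : ∀ x, σ x = x ^ q

variable {σ : K →+* K} {q : ℕ}

theorem N_mem_U (a b c d e f g h i j k l m n o p r s t u v w x y : K) :
    UL σ a b c d e f g h i * Q σ j k l m n o p r s t u v w x y ∈ chevE6.posUnipotent K := by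
  simp only [UL, Q, D]
  repeat' apply mul_mem
  all_goals exact xG_mem_rootsU (S := {r | chevE6.IsPosRoot r}) full.cert (isPos (by decide +kernel)) _

variable (S : Setting σ q)

include S

theorem Setting.finite : Finite K :=
  Nat.finite_of_card_ne_zero (S.card ▸ pow_ne_zero _ S.pp.pos.ne')

theorem Setting.invol (x : K) : σ (σ x) = x := by
  have := S.finite
  have : Fintype K := Fintype.ofFinite K
  rw [S.pow, S.pow, ← pow_mul, ← sq, ← S.card, Nat.card_eq_fintype_card, FiniteField.pow_card]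

theorem Setting.card_fixed : Nat.card {x : K // σ x = x} = q := by
  have := S.finite
  have : Fintype K := Fintype.ofFinite K
  have h := card_pow_eq_self (F := K) (n := 2) S.pp.two_le (by rw [← Nat.card_eq_fintype_card]; exact S.card)
  rw [← h]
  exact Nat.card_congr (Equiv.subtypeEquivRight fun x => by simp [S.pow])

theorem Setting.mem_long {r : ℕ} (hr : r ∈ [46, 25, 39, 32]) {t : K} (ht : σ t = t) :
    X r t ∈ twistedE6 K q := by
  have h := wordG_mem_gen (F := K) full.cert (S := e6Words K q) (w := [(r, t)])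
    (Or.inl ⟨t, by rw [← S.pow, ht], r, by simpa [e6p2, e6m2, e6p4, e6m4] using hr, rfl⟩)
  simp only [wordG_cons, wordG_nil, mul_one] at h
  exact h

theorem Setting.mem_short (u : K) : (D 36 56 u (σ u) ∈ twistedE6 K q ∧ D 37 42 u (σ u) ∈ twistedE6 K q) ∧
    D 35 15 u (σ u) ∈ twistedE6 K q ∧ D 34 29 u (σ u) ∈ twistedE6 K q := by
  have hu : u = σ u ^ q := by rw [← S.pow, S.invol]
  have key : ∀ a b : ℕ, (b, a) ∈ [(56, 36), (15, 35), (42, 37), (29, 34)] → commOK b a = true →
      D a b u (σ u) ∈ twistedE6 K q := by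
    intro a b hab hc
    have h := wordG_mem_gen (F := K) full.cert (S := e6Words K q) (w := [(b, σ u), (a, σ u ^ q)])
      (Or.inr ⟨σ u, (b, a), by simpa [e6p1, e6p6, e6m1, e6m6, e6p3, e6p5, e6m3, e6m5] using hab, rfl⟩)
    simp only [wordG_cons, wordG_nil, mul_one, ← hu] at h
    rw [D, ← (commute_X hc (σ u) u).eq]
    exact h
  exact ⟨⟨key 36 56 (by simp) (by decide +kernel), key 37 42 (by simp) (by decide +kernel)⟩,
    key 35 15 (by simp) (by decide +kernel), key 34 29 (by simp) (by decide +kernel)⟩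

theorem Setting.conj_mem {n g : GL chevE6.Idx K} (hn : n ∈ twistedE6 K q) (hg : g ∈ twistedE6 K q) :
    n * g * n⁻¹ ∈ twistedE6 K q :=
  mul_mem (mul_mem hn hg) (inv_mem hn)

theorem Setting.nG_long_mem {r : ℕ} (hr : r ∈ [46, 39]) {s : K} (hs : σ s = s) :
    nG full.cert r s ∈ twistedE6 K q := by
  fin_cases hr <;>
  · rw [nG, CharTwo.neg_eq]
    exact mul_mem (mul_mem (S.mem_long (by simp) hs)
      (S.mem_long (List.mem_of_elem_eq_true (by decide +kernel)) (by rw [map_inv₀, hs])))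
      (S.mem_long (by simp) hs)

theorem Setting.nG_short_mem (s : K) :
    nG full.cert 36 s * nG full.cert 56 (σ s) ∈ twistedE6 K q ∧
      nG full.cert 37 s * nG full.cert 42 (σ s) ∈ twistedE6 K q := by
  refine ⟨?_, ?_⟩
  · rw [nG, nG, show chevE6.neg 36 = 35 from rfl, show chevE6.neg 56 = 15 from rfl, CharTwo.neg_eq,
      CharTwo.neg_eq, ← map_inv₀, pair_mul (commute_X (by decide +kernel) _ _) (commute_X (by decide +kernel) _ _)
      (commute_X (by decide +kernel) _ _)]
    exact mul_mem (mul_mem (S.mem_short s).1.1 (S.mem_short _).2.1) (S.mem_short s).1.1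
  · rw [nG, nG, show chevE6.neg 37 = 34 from rfl, show chevE6.neg 42 = 29 from rfl, CharTwo.neg_eq,
      CharTwo.neg_eq, ← map_inv₀, pair_mul (commute_X (by decide +kernel) _ _) (commute_X (by decide +kernel) _ _)
      (commute_X (by decide +kernel) _ _)]
    exact mul_mem (mul_mem (S.mem_short s).1.2 (S.mem_short _).2.2) (S.mem_short s).1.2

theorem Setting.w1_mem : (w1 : GL chevE6.Idx K) ∈ twistedE6 K q := S.nG_long_mem (by simp) (map_one σ)

theorem Setting.w0_mem : (w0 : GL chevE6.Idx K) ∈ twistedE6 K q := S.nG_long_mem (by simp) (map_one σ)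

theorem Setting.w2_mem : (w2 : GL chevE6.Idx K) ∈ twistedE6 K q := by
  simpa [w2] using (S.nG_short_mem 1).1

theorem Setting.w3_mem : (w3 : GL chevE6.Idx K) ∈ twistedE6 K q := by
  simpa [w3] using (S.nG_short_mem 1).2

theorem Setting.mem_0 {t : K} (ht : σ t = t) : X 39 t ∈ twistedE6 K q := S.mem_long (by simp) ht

theorem Setting.mem_1 {t : K} (ht : σ t = t) : X 46 t ∈ twistedE6 K q := S.mem_long (by simp) ht

theorem Setting.mem_2 (u : K) : D 36 56 u (σ u) ∈ twistedE6 K q := (S.mem_short u).1.1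

theorem Setting.mem_3 (u : K) : D 37 42 u (σ u) ∈ twistedE6 K q := (S.mem_short u).1.2

theorem Setting.mem_4 {t : K} (ht : σ t = t) : X 47 t ∈ twistedE6 K q := by
  have h := S.conj_mem S.w1_mem (S.mem_0 ht)
  rwa [w1_0] at h

theorem Setting.mem_7 {t : K} (ht : σ t = t) : X 44 t ∈ twistedE6 K q := by
  have h := S.conj_mem S.w3_mem (S.mem_0 ht)
  rwa [w3_0] at h

theorem Setting.mem_5 (u : K) : D 38 57 u (σ u) ∈ twistedE6 K q := by
  have h := S.conj_mem S.w3_mem (S.mem_2 u)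
  rw [w3_2] at h
  exact h

theorem Setting.mem_6 (u : K) : D 40 43 u (σ u) ∈ twistedE6 K q := by
  have h := S.conj_mem S.w0_mem (S.mem_3 u)
  rw [w0_3] at h
  exact h

theorem Setting.mem_10 {t : K} (ht : σ t = t) : X 51 t ∈ twistedE6 K q := by
  have h := S.conj_mem S.w3_mem (S.mem_4 ht)
  rwa [w3_4] at h

theorem Setting.mem_14 {t : K} (ht : σ t = t) : X 60 t ∈ twistedE6 K q := by
  have h := S.conj_mem S.w2_mem (S.mem_7 ht)
  rwa [w2_7] at h

theorem Setting.mem_8 (u : K) : D 41 58 u (σ u) ∈ twistedE6 K q := by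
  have h := S.conj_mem S.w0_mem (S.mem_5 u)
  rw [w0_5] at h
  exact h

theorem Setting.mem_9 (u : K) : D 48 50 u (σ u) ∈ twistedE6 K q := by
  have h := S.conj_mem S.w1_mem (S.mem_6 u)
  rw [w1_6] at h
  exact h

theorem Setting.mem_13 {t : K} (ht : σ t = t) : X 53 t ∈ twistedE6 K q := by
  have h := S.conj_mem S.w0_mem (S.mem_10 ht)
  rwa [w0_10] at h

theorem Setting.mem_16 {t : K} (ht : σ t = t) : X 63 t ∈ twistedE6 K q := by
  have h := S.conj_mem S.w2_mem (S.mem_10 ht)
  rwa [w2_10] at h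

theorem Setting.mem_12 (u : K) : D 49 61 u (σ u) ∈ twistedE6 K q := by
  have h := S.conj_mem S.w1_mem (S.mem_8 u)
  rw [w1_8] at h
  exact h

theorem Setting.mem_11 (u : K) : D 45 59 u (σ u) ∈ twistedE6 K q := by
  have h := S.conj_mem S.w3_mem (S.mem_8 u)
  rw [w3_8] at h
  exact h

theorem Setting.mem_18 {t : K} (ht : σ t = t) : X 65 t ∈ twistedE6 K q := by
  have h := S.conj_mem S.w2_mem (S.mem_13 ht)
  rwa [w2_13] at h

theorem Setting.mem_15 (u : K) : D 52 62 u (σ u) ∈ twistedE6 K q := by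
  have h := S.conj_mem S.w3_mem (S.mem_12 u)
  rw [w3_12] at h
  exact h

theorem Setting.mem_21 {t : K} (ht : σ t = t) : X 69 t ∈ twistedE6 K q := by
  have h := S.conj_mem S.w3_mem (S.mem_18 ht)
  rwa [w3_18] at h

theorem Setting.mem_17 (u : K) : D 54 64 u (σ u) ∈ twistedE6 K q := by
  have h := S.conj_mem S.w0_mem (S.mem_15 u)
  rw [w0_15] at h
  exact h

theorem Setting.mem_22 {t : K} (ht : σ t = t) : X 70 t ∈ twistedE6 K q := by
  have h := S.conj_mem S.w0_mem (S.mem_21 ht)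
  rwa [w0_21] at h

theorem Setting.mem_19 (u : K) : D 55 67 u (σ u) ∈ twistedE6 K q := by
  have h := S.conj_mem S.w3_mem (S.mem_17 u)
  rw [w3_17] at h
  exact h

theorem Setting.mem_23 {t : K} (ht : σ t = t) : X 71 t ∈ twistedE6 K q := by
  have h := S.conj_mem S.w1_mem (S.mem_22 ht)
  rwa [w1_22] at h

theorem Setting.mem_20 (u : K) : D 66 68 u (σ u) ∈ twistedE6 K q := by
  have h := S.conj_mem S.w2_mem (S.mem_19 u)
  rw [w2_19] at h
  exact h

theorem Setting.UL_mem {c2 c3 c5 c0 c6 c7 c8 c11 c14 : K} (h0 : σ c0 = c0) (h7 : σ c7 = c7) (h14 : σ c14 = c14) : UL σ c2 c3 c5 c0 c6 c7 c8 c11 c14 ∈ twistedE6 K q :=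
  (mul_mem (mul_mem (mul_mem (mul_mem (mul_mem (mul_mem (mul_mem (mul_mem (S.mem_2 _) (S.mem_3 _)) (S.mem_5 _)) (S.mem_0 h0)) (S.mem_6 _)) (S.mem_7 h7)) (S.mem_8 _)) (S.mem_11 _)) (S.mem_14 h14))

theorem Setting.Q_mem {c1 c4 c9 c10 c12 c13 c15 c16 c17 c18 c19 c20 c21 c22 c23 : K} (h1 : σ c1 = c1) (h4 : σ c4 = c4) (h10 : σ c10 = c10) (h13 : σ c13 = c13) (h16 : σ c16 = c16) (h18 : σ c18 = c18) (h21 : σ c21 = c21) (h22 : σ c22 = c22) (h23 : σ c23 = c23) : Q σ c1 c4 c9 c10 c12 c13 c15 c16 c17 c18 c19 c20 c21 c22 c23 ∈ twistedE6 K q :=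
  (mul_mem (mul_mem (mul_mem (mul_mem (mul_mem (mul_mem (mul_mem (mul_mem (mul_mem (mul_mem (mul_mem (mul_mem (mul_mem (mul_mem (S.mem_1 h1) (S.mem_4 h4)) (S.mem_9 _)) (S.mem_10 h10)) (S.mem_12 _)) (S.mem_13 h13)) (S.mem_15 _)) (S.mem_16 h16)) (S.mem_17 _)) (S.mem_18 h18)) (S.mem_19 _)) (S.mem_20 _)) (S.mem_21 h21)) (S.mem_22 h22)) (S.mem_23 h23))


omit S in
theorem N_inj {c2 c3 c5 c0 c6 c7 c8 c11 c14 c1 c4 c9 c10 c12 c13 c15 c16 c17 c18 c19 c20 c21 c22 c23 d2 d3 d5 d0 d6 d7 d8 d11 d14 d1 d4 d9 d10 d12 d13 d15 d16 d17 d18 d19 d20 d21 d22 d23 : K}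
    (h : UL σ c2 c3 c5 c0 c6 c7 c8 c11 c14 * Q σ c1 c4 c9 c10 c12 c13 c15 c16 c17 c18 c19 c20 c21 c22 c23 = UL σ d2 d3 d5 d0 d6 d7 d8 d11 d14 * Q σ d1 d4 d9 d10 d12 d13 d15 d16 d17 d18 d19 d20 d21 d22 d23) :
    c2 = d2 ∧ c3 = d3 ∧ c5 = d5 ∧ c0 = d0 ∧ c6 = d6 ∧ c7 = d7 ∧ c8 = d8 ∧ c11 = d11 ∧ c14 = d14 ∧ c1 = d1 ∧ c4 = d4 ∧ c9 = d9 ∧ c10 = d10 ∧ c12 = d12 ∧ c13 = d13 ∧ c15 = d15 ∧ c16 = d16 ∧ c17 = d17 ∧ c18 = d18 ∧ c19 = d19 ∧ c20 = d20 ∧ c21 = d21 ∧ c22 = d22 ∧ c23 = d23 := by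
  simp only [UL, Q] at h
  have h' := congrArg (· * (1 : GL chevE6.Idx K)) h
  simp only [mul_assoc] at h'
  obtain ⟨e36, e56, e37, e42, e38, e57, e39, e40, e43, e44, e41, e58, e45, e59, e60, e46, e47, e48, e50, e51, e49, e61, e53, e52, e62, e63, e54, e64, e65, e55, e67, e66, e68, e69, e70, e71⟩ := list_inj h'
  exact ⟨e36, e37, e38, e39, e40, e44, e41, e45, e60, e46, e47, e48, e51, e49, e53, e52, e63, e54, e65, e55, e66, e69, e70, e71⟩

/-- Every element of `U¹` has coordinates. -/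
theorem Setting.exists_N {g : GL chevE6.Idx K} (hg : g ∈ twistedE6 K q) (hu : g ∈ chevE6.posUnipotent K) :
    ∃ c2 c3 c5 c0 c6 c7 c8 c11 c14 c1 c4 c9 c10 c12 c13 c15 c16 c17 c18 c19 c20 c21 c22 c23, (σ c0 = c0 ∧ σ c7 = c7 ∧ σ c14 = c14 ∧ σ c1 = c1 ∧ σ c4 = c4 ∧ σ c10 = c10 ∧ σ c13 = c13 ∧ σ c16 = c16 ∧ σ c18 = c18 ∧ σ c21 = c21 ∧ σ c22 = c22 ∧ σ c23 = c23) ∧
      g = UL σ c2 c3 c5 c0 c6 c7 c8 c11 c14 * Q σ c1 c4 c9 c10 c12 c13 c15 c16 c17 c18 c19 c20 c21 c22 c23 := by
  have := S.finite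
  have : Fintype K := Fintype.ofFinite K
  let P := {x : K // σ x = x}
  let Φ : K × K × K × P × K × P × K × K × P × P × P × K × P × K × P × K × P × K × P × K × K × P × P × P → ↥(twistedE6 K q ⊓ chevE6.posUnipotent K) := fun ⟨c2, c3, c5, c0, c6, c7, c8, c11, c14, c1, c4, c9, c10, c12, c13, c15, c16, c17, c18, c19, c20, c21, c22, c23⟩ =>
    ⟨UL σ c2 c3 c5 c0.1 c6 c7.1 c8 c11 c14.1 * Q σ c1.1 c4.1 c9 c10.1 c12 c13.1 c15 c16.1 c17 c18.1 c19 c20 c21.1 c22.1 c23.1,
      mul_mem (S.UL_mem c0.2 c7.2 c14.2) (S.Q_mem c1.2 c4.2 c10.2 c13.2 c16.2 c18.2 c21.2 c22.2 c23.2), N_mem_U _ _ _ _ _ _ _ _ _ _ _ _ _ _ _ _ _ _ _ _ _ _ _ _⟩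
  have hinj : Function.Injective Φ := by
    rintro ⟨c2, c3, c5, c0, c6, c7, c8, c11, c14, c1, c4, c9, c10, c12, c13, c15, c16, c17, c18, c19, c20, c21, c22, c23⟩ ⟨d2, d3, d5, d0, d6, d7, d8, d11, d14, d1, d4, d9, d10, d12, d13, d15, d16, d17, d18, d19, d20, d21, d22, d23⟩ h
    obtain ⟨h2, h3, h5, h0, h6, h7, h8, h11, h14, h1, h4, h9, h10, h12, h13, h15, h16, h17, h18, h19, h20, h21, h22, h23⟩ := N_inj (congrArg Subtype.val h)
    obtain rfl := h2
    obtain rfl := h3
    obtain rfl := h5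
    obtain rfl := Subtype.ext h0
    obtain rfl := h6
    obtain rfl := Subtype.ext h7
    obtain rfl := h8
    obtain rfl := h11
    obtain rfl := Subtype.ext h14
    obtain rfl := Subtype.ext h1
    obtain rfl := Subtype.ext h4
    obtain rfl := h9
    obtain rfl := Subtype.ext h10
    obtain rfl := h12
    obtain rfl := Subtype.ext h13
    obtain rfl := h15
    obtain rfl := Subtype.ext h16
    obtain rfl := h17
    obtain rfl := Subtype.ext h18
    obtain rfl := h19
    obtain rfl := h20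
    obtain rfl := Subtype.ext h21
    obtain rfl := Subtype.ext h22
    obtain rfl := Subtype.ext h23
    rfl
  have hcard : Nat.card (K × K × K × P × K × P × K × K × P × P × P × K × P × K × P × K × P × K × P × K × K × P × P × P) =
      Nat.card ↥(twistedE6 K q ⊓ chevE6.posUnipotent K) := by
    rw [card_unipotentE6 S.pp (by rw [← Nat.card_eq_fintype_card]; exact S.card)]
    simp only [Nat.card_prod, P, S.card_fixed, S.card]
    ring
  obtain ⟨⟨c2, c3, c5, c0, c6, c7, c8, c11, c14, c1, c4, c9, c10, c12, c13, c15, c16, c17, c18, c19, c20, c21, c22, c23⟩, hx⟩ := ((Nat.bijective_iff_injective_and_card Φ).2 ⟨hinj, hcard⟩).2 ⟨g, hg, hu⟩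
  exact ⟨_, _, _, _, _, _, _, _, _, _, _, _, _, _, _, _, _, _, _, _, _, _, _, _, ⟨c0.2, c7.2, c14.2, c1.2, c4.2, c10.2, c13.2, c16.2, c18.2, c21.2, c22.2, c23.2⟩,
    (congrArg Subtype.val hx).symm⟩


end CfsgLib.TwistedE6Involutions
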