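import Mathlib
import Cfsg.Agent.Lib.Twisted.TwistedBN
import Cfsg.Agent.Lib.Chevalley.SL2

/-!
Root elements of `E₆` in characteristic two, grouped along the orbits of the graph automorphism: rules bringing
products in `U` to the order "Levi part of type A₅, then radical" (generated from the root table).
-/

set_option autoImplicit false
set_option linter.all false
set_option maxRecDepth 20000

namespace CfsgLib.TwistedE6Involutions

open Cfsg.Lie CfsgLib.Chevalley

/-- The checked data of `E₆`. -/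
theorem full : Full chevE6 auxE6 := CfsgLib.Twisted.fullE6

variable {K : Type*} [Field K] [CharP K 2]

/-- The root elements. -/
noncomputable abbrev X (r : ℕ) (t : K) : GL chevE6.Idx K := xG full.cert r t

/-- A pair of root elements of an orbit of size two. -/
noncomputable def D (a b : ℕ) (u w : K) : GL chevE6.Idx K := X a u * X b w

theorem swap {r s : ℕ} (hr : r < chevE6.nroots) (hs : s < chevE6.nroots) (hne : s ≠ r)
    (hneg : s ≠ chevE6.neg r) (t u : K) (R : GL chevE6.Idx K) :
    X s u * (X r t * R) = X r t * (X s u *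
      (((chevE6.commTerms r s).map fun c => X c.1 ((c.2.1 : K) * t ^ c.2.2.1 * u ^ c.2.2.2)).prod * R)) := by
  have h := x_mul_x full.mem hr hs hne hneg t u
  rw [wordMat_eq_prod full.cert] at h
  simp only [ChevalleyDatum.commWord, List.map_map, Function.comp_def, CharTwo.neg_eq] at h
  have h' : X s u * X r t = X r t * X s u *
      ((chevE6.commTerms r s).map fun c => X c.1 ((c.2.1 : K) * t ^ c.2.2.1 * u ^ c.2.2.2)).prod :=
    Units.ext (by simpa using h)
  rw [← mul_assoc, h', mul_assoc, mul_assoc]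

/-- Two roots give commuting root elements. -/
def commOK (r s : ℕ) : Bool :=
  decide (r < chevE6.nroots) && decide (s < chevE6.nroots) &&
    (r == s || (s != chevE6.neg r && (chevE6.commTerms r s).isEmpty))

theorem commute_X {r s : ℕ} (h : commOK r s = true) (t u : K) : Commute (X r t) (X s u) := by
  simp only [commOK, Bool.and_eq_true, decide_eq_true_eq, Bool.or_eq_true, beq_iff_eq, bne_iff_ne,
    List.isEmpty_iff] at h
  obtain ⟨⟨hr, hs⟩, h⟩ := h
  by_cases e : r = s
  · subst e
    show _ = _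
    rw [xG_mul, xG_mul, add_comm]
  · obtain ⟨hneg, hc⟩ := h.resolve_left e
    have := swap hr hs (Ne.symm e) hneg t u 1
    simp only [hc, List.map_nil, List.prod_nil, mul_one] at this
    exact this.symm

theorem commute_XD {r c d : ℕ} (h : (commOK r c && commOK r d) = true) (t u w : K) :
    Commute (X r t) (D c d u w) := by
  rw [Bool.and_eq_true] at h
  exact (commute_X h.1 t u).mul_right (commute_X h.2 t w)

theorem commute_DD {a b c d : ℕ} (h : (commOK a c && commOK a d && (commOK b c && commOK b d)) = true)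
    (u w u' w' : K) : Commute (D a b u w) (D c d u' w') := by
  simp only [Bool.and_eq_true] at h
  exact (commute_XD (by simp [h.1]) u u' w').mul_left (commute_XD (by simp [h.2]) w u' w')

theorem flip {g h : GL chevE6.Idx K} (c : Commute g h) (R : GL chevE6.Idx K) : g * (h * R) = h * (g * R) := by
  rw [← mul_assoc, c.eq, mul_assoc]

theorem merge (k : ℕ) (t u : K) (R : GL chevE6.Idx K) : X k t * (X k u * R) = X k (t + u) * R := by
  rw [← mul_assoc, xG_mul]

theorem mergeD {a b : ℕ} (h : commOK b a = true) (u w u' w' : K) (R : GL chevE6.Idx K) :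
    D a b u w * (D a b u' w' * R) = D a b (u + u') (w + w') * R := by
  simp only [D, mul_assoc]
  rw [flip (commute_X h w u') (X b w' * R), merge, merge]

variable (t u : K) (R : GL chevE6.Idx K)
theorem q37_36 : X 37 u * (X 36 t * R) = X 36 t * (X 37 u * (X 38 (t * u) * R)) := by
  rw [swap (r := 36) (s := 37) (by decide) (by decide) (by decide) (by decide)]
  rcases (show chevE6.commTerms 36 37 = [(38, 1, 1, 1)] ∨ chevE6.commTerms 36 37 = [(38, -1, 1, 1)] by decide +kernel) with e | e <;>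
    simp [e, CharTwo.neg_eq, mul_assoc]

theorem q37_56 : X 37 u * (X 56 t * R) = X 56 t * (X 37 u * R) :=
  flip (commute_X (by decide +kernel) _ _) R

theorem q38_42 : X 38 u * (X 42 t * R) = X 42 t * (X 38 u * R) :=
  flip (commute_X (by decide +kernel) _ _) R

theorem q38_56 : X 38 u * (X 56 t * R) = X 56 t * (X 38 u * R) :=
  flip (commute_X (by decide +kernel) _ _) R

theorem q39_37 : X 39 u * (X 37 t * R) = X 37 t * (X 39 u * (X 40 (t * u) * R)) := by
  rw [swap (r := 37) (s := 39) (by decide) (by decide) (by decide) (by decide)]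
  rcases (show chevE6.commTerms 37 39 = [(40, 1, 1, 1)] ∨ chevE6.commTerms 37 39 = [(40, -1, 1, 1)] by decide +kernel) with e | e <;>
    simp [e, CharTwo.neg_eq, mul_assoc]

theorem q39_38 : X 39 u * (X 38 t * R) = X 38 t * (X 39 u * (X 41 (t * u) * R)) := by
  rw [swap (r := 38) (s := 39) (by decide) (by decide) (by decide) (by decide)]
  rcases (show chevE6.commTerms 38 39 = [(41, 1, 1, 1)] ∨ chevE6.commTerms 38 39 = [(41, -1, 1, 1)] by decide +kernel) with e | e <;>
    simp [e, CharTwo.neg_eq, mul_assoc]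

theorem q39_42 : X 39 u * (X 42 t * R) = X 42 t * (X 39 u * (X 43 (t * u) * R)) := by
  rw [swap (r := 42) (s := 39) (by decide) (by decide) (by decide) (by decide)]
  rcases (show chevE6.commTerms 42 39 = [(43, 1, 1, 1)] ∨ chevE6.commTerms 42 39 = [(43, -1, 1, 1)] by decide +kernel) with e | e <;>
    simp [e, CharTwo.neg_eq, mul_assoc]

theorem q39_57 : X 39 u * (X 57 t * R) = X 57 t * (X 39 u * (X 58 (t * u) * R)) := by
  rw [swap (r := 57) (s := 39) (by decide) (by decide) (by decide) (by decide)]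
  rcases (show chevE6.commTerms 57 39 = [(58, 1, 1, 1)] ∨ chevE6.commTerms 57 39 = [(58, -1, 1, 1)] by decide +kernel) with e | e <;>
    simp [e, CharTwo.neg_eq, mul_assoc]

theorem q40_36 : X 40 u * (X 36 t * R) = X 36 t * (X 40 u * (X 41 (t * u) * R)) := by
  rw [swap (r := 36) (s := 40) (by decide) (by decide) (by decide) (by decide)]
  rcases (show chevE6.commTerms 36 40 = [(41, 1, 1, 1)] ∨ chevE6.commTerms 36 40 = [(41, -1, 1, 1)] by decide +kernel) with e | e <;>
    simp [e, CharTwo.neg_eq, mul_assoc]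

theorem q40_37 : X 40 u * (X 37 t * R) = X 37 t * (X 40 u * R) :=
  flip (commute_X (by decide +kernel) _ _) R

theorem q40_38 : X 40 u * (X 38 t * R) = X 38 t * (X 40 u * R) :=
  flip (commute_X (by decide +kernel) _ _) R

theorem q40_42 : X 40 u * (X 42 t * R) = X 42 t * (X 40 u * (X 44 (t * u) * R)) := by
  rw [swap (r := 42) (s := 40) (by decide) (by decide) (by decide) (by decide)]
  rcases (show chevE6.commTerms 42 40 = [(44, 1, 1, 1)] ∨ chevE6.commTerms 42 40 = [(44, -1, 1, 1)] by decide +kernel) with e | e <;>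
    simp [e, CharTwo.neg_eq, mul_assoc]

theorem q40_56 : X 40 u * (X 56 t * R) = X 56 t * (X 40 u * R) :=
  flip (commute_X (by decide +kernel) _ _) R

theorem q40_57 : X 40 u * (X 57 t * R) = X 57 t * (X 40 u * (X 59 (t * u) * R)) := by
  rw [swap (r := 57) (s := 40) (by decide) (by decide) (by decide) (by decide)]
  rcases (show chevE6.commTerms 57 40 = [(59, 1, 1, 1)] ∨ chevE6.commTerms 57 40 = [(59, -1, 1, 1)] by decide +kernel) with e | e <;>
    simp [e, CharTwo.neg_eq, mul_assoc]

theorem q41_37 : X 41 u * (X 37 t * R) = X 37 t * (X 41 u * R) :=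
  flip (commute_X (by decide +kernel) _ _) R

theorem q41_38 : X 41 u * (X 38 t * R) = X 38 t * (X 41 u * R) :=
  flip (commute_X (by decide +kernel) _ _) R

theorem q41_42 : X 41 u * (X 42 t * R) = X 42 t * (X 41 u * (X 45 (t * u) * R)) := by
  rw [swap (r := 42) (s := 41) (by decide) (by decide) (by decide) (by decide)]
  rcases (show chevE6.commTerms 42 41 = [(45, 1, 1, 1)] ∨ chevE6.commTerms 42 41 = [(45, -1, 1, 1)] by decide +kernel) with e | e <;>
    simp [e, CharTwo.neg_eq, mul_assoc]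

theorem q41_43 : X 41 u * (X 43 t * R) = X 43 t * (X 41 u * R) :=
  flip (commute_X (by decide +kernel) _ _) R

theorem q41_56 : X 41 u * (X 56 t * R) = X 56 t * (X 41 u * R) :=
  flip (commute_X (by decide +kernel) _ _) R

theorem q41_57 : X 41 u * (X 57 t * R) = X 57 t * (X 41 u * (X 60 (t * u) * R)) := by
  rw [swap (r := 57) (s := 41) (by decide) (by decide) (by decide) (by decide)]
  rcases (show chevE6.commTerms 57 41 = [(60, 1, 1, 1)] ∨ chevE6.commTerms 57 41 = [(60, -1, 1, 1)] by decide +kernel) with e | e <;>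
    simp [e, CharTwo.neg_eq, mul_assoc]

theorem q42_36 : X 42 u * (X 36 t * R) = X 36 t * (X 42 u * R) :=
  flip (commute_X (by decide +kernel) _ _) R

theorem q42_56 : X 42 u * (X 56 t * R) = X 56 t * (X 42 u * (X 57 (t * u) * R)) := by
  rw [swap (r := 56) (s := 42) (by decide) (by decide) (by decide) (by decide)]
  rcases (show chevE6.commTerms 56 42 = [(57, 1, 1, 1)] ∨ chevE6.commTerms 56 42 = [(57, -1, 1, 1)] by decide +kernel) with e | e <;>
    simp [e, CharTwo.neg_eq, mul_assoc]

theorem q43_36 : X 43 u * (X 36 t * R) = X 36 t * (X 43 u * R) :=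
  flip (commute_X (by decide +kernel) _ _) R

theorem q43_37 : X 43 u * (X 37 t * R) = X 37 t * (X 43 u * (X 44 (t * u) * R)) := by
  rw [swap (r := 37) (s := 43) (by decide) (by decide) (by decide) (by decide)]
  rcases (show chevE6.commTerms 37 43 = [(44, 1, 1, 1)] ∨ chevE6.commTerms 37 43 = [(44, -1, 1, 1)] by decide +kernel) with e | e <;>
    simp [e, CharTwo.neg_eq, mul_assoc]

theorem q43_38 : X 43 u * (X 38 t * R) = X 38 t * (X 43 u * (X 45 (t * u) * R)) := by
  rw [swap (r := 38) (s := 43) (by decide) (by decide) (by decide) (by decide)]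
  rcases (show chevE6.commTerms 38 43 = [(45, 1, 1, 1)] ∨ chevE6.commTerms 38 43 = [(45, -1, 1, 1)] by decide +kernel) with e | e <;>
    simp [e, CharTwo.neg_eq, mul_assoc]

theorem q43_40 : X 43 u * (X 40 t * R) = X 40 t * (X 43 u * R) :=
  flip (commute_X (by decide +kernel) _ _) R

theorem q43_42 : X 43 u * (X 42 t * R) = X 42 t * (X 43 u * R) :=
  flip (commute_X (by decide +kernel) _ _) R

theorem q43_56 : X 43 u * (X 56 t * R) = X 56 t * (X 43 u * (X 58 (t * u) * R)) := by
  rw [swap (r := 56) (s := 43) (by decide) (by decide) (by decide) (by decide)]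
  rcases (show chevE6.commTerms 56 43 = [(58, 1, 1, 1)] ∨ chevE6.commTerms 56 43 = [(58, -1, 1, 1)] by decide +kernel) with e | e <;>
    simp [e, CharTwo.neg_eq, mul_assoc]

theorem q43_57 : X 43 u * (X 57 t * R) = X 57 t * (X 43 u * R) :=
  flip (commute_X (by decide +kernel) _ _) R

theorem q44_36 : X 44 u * (X 36 t * R) = X 36 t * (X 44 u * (X 45 (t * u) * R)) := by
  rw [swap (r := 36) (s := 44) (by decide) (by decide) (by decide) (by decide)]
  rcases (show chevE6.commTerms 36 44 = [(45, 1, 1, 1)] ∨ chevE6.commTerms 36 44 = [(45, -1, 1, 1)] by decide +kernel) with e | e <;>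
    simp [e, CharTwo.neg_eq, mul_assoc]

theorem q44_42 : X 44 u * (X 42 t * R) = X 42 t * (X 44 u * R) :=
  flip (commute_X (by decide +kernel) _ _) R

theorem q44_43 : X 44 u * (X 43 t * R) = X 43 t * (X 44 u * R) :=
  flip (commute_X (by decide +kernel) _ _) R

theorem q44_56 : X 44 u * (X 56 t * R) = X 56 t * (X 44 u * (X 59 (t * u) * R)) := by
  rw [swap (r := 56) (s := 44) (by decide) (by decide) (by decide) (by decide)]
  rcases (show chevE6.commTerms 56 44 = [(59, 1, 1, 1)] ∨ chevE6.commTerms 56 44 = [(59, -1, 1, 1)] by decide +kernel) with e | e <;>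
    simp [e, CharTwo.neg_eq, mul_assoc]

theorem q45_36 : X 45 u * (X 36 t * R) = X 36 t * (X 45 u * R) :=
  flip (commute_X (by decide +kernel) _ _) R

theorem q45_56 : X 45 u * (X 56 t * R) = X 56 t * (X 45 u * (X 60 (t * u) * R)) := by
  rw [swap (r := 56) (s := 45) (by decide) (by decide) (by decide) (by decide)]
  rcases (show chevE6.commTerms 56 45 = [(60, 1, 1, 1)] ∨ chevE6.commTerms 56 45 = [(60, -1, 1, 1)] by decide +kernel) with e | e <;>
    simp [e, CharTwo.neg_eq, mul_assoc]

theorem q45_57 : X 45 u * (X 57 t * R) = X 57 t * (X 45 u * R) :=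
  flip (commute_X (by decide +kernel) _ _) R

theorem q45_58 : X 45 u * (X 58 t * R) = X 58 t * (X 45 u * R) :=
  flip (commute_X (by decide +kernel) _ _) R

theorem q46_39 : X 46 u * (X 39 t * R) = X 39 t * (X 46 u * (X 47 (t * u) * R)) := by
  rw [swap (r := 39) (s := 46) (by decide) (by decide) (by decide) (by decide)]
  rcases (show chevE6.commTerms 39 46 = [(47, 1, 1, 1)] ∨ chevE6.commTerms 39 46 = [(47, -1, 1, 1)] by decide +kernel) with e | e <;>
    simp [e, CharTwo.neg_eq, mul_assoc]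

theorem q46_40 : X 46 u * (X 40 t * R) = X 40 t * (X 46 u * (X 48 (t * u) * R)) := by
  rw [swap (r := 40) (s := 46) (by decide) (by decide) (by decide) (by decide)]
  rcases (show chevE6.commTerms 40 46 = [(48, 1, 1, 1)] ∨ chevE6.commTerms 40 46 = [(48, -1, 1, 1)] by decide +kernel) with e | e <;>
    simp [e, CharTwo.neg_eq, mul_assoc]

theorem q46_41 : X 46 u * (X 41 t * R) = X 41 t * (X 46 u * (X 49 (t * u) * R)) := by
  rw [swap (r := 41) (s := 46) (by decide) (by decide) (by decide) (by decide)]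
  rcases (show chevE6.commTerms 41 46 = [(49, 1, 1, 1)] ∨ chevE6.commTerms 41 46 = [(49, -1, 1, 1)] by decide +kernel) with e | e <;>
    simp [e, CharTwo.neg_eq, mul_assoc]

theorem q46_43 : X 46 u * (X 43 t * R) = X 43 t * (X 46 u * (X 50 (t * u) * R)) := by
  rw [swap (r := 43) (s := 46) (by decide) (by decide) (by decide) (by decide)]
  rcases (show chevE6.commTerms 43 46 = [(50, 1, 1, 1)] ∨ chevE6.commTerms 43 46 = [(50, -1, 1, 1)] by decide +kernel) with e | e <;>
    simp [e, CharTwo.neg_eq, mul_assoc]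

theorem q46_44 : X 46 u * (X 44 t * R) = X 44 t * (X 46 u * (X 51 (t * u) * R)) := by
  rw [swap (r := 44) (s := 46) (by decide) (by decide) (by decide) (by decide)]
  rcases (show chevE6.commTerms 44 46 = [(51, 1, 1, 1)] ∨ chevE6.commTerms 44 46 = [(51, -1, 1, 1)] by decide +kernel) with e | e <;>
    simp [e, CharTwo.neg_eq, mul_assoc]

theorem q46_45 : X 46 u * (X 45 t * R) = X 45 t * (X 46 u * (X 52 (t * u) * R)) := by
  rw [swap (r := 45) (s := 46) (by decide) (by decide) (by decide) (by decide)]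
  rcases (show chevE6.commTerms 45 46 = [(52, 1, 1, 1)] ∨ chevE6.commTerms 45 46 = [(52, -1, 1, 1)] by decide +kernel) with e | e <;>
    simp [e, CharTwo.neg_eq, mul_assoc]

theorem q46_58 : X 46 u * (X 58 t * R) = X 58 t * (X 46 u * (X 61 (t * u) * R)) := by
  rw [swap (r := 58) (s := 46) (by decide) (by decide) (by decide) (by decide)]
  rcases (show chevE6.commTerms 58 46 = [(61, 1, 1, 1)] ∨ chevE6.commTerms 58 46 = [(61, -1, 1, 1)] by decide +kernel) with e | e <;>
    simp [e, CharTwo.neg_eq, mul_assoc]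

theorem q46_59 : X 46 u * (X 59 t * R) = X 59 t * (X 46 u * (X 62 (t * u) * R)) := by
  rw [swap (r := 59) (s := 46) (by decide) (by decide) (by decide) (by decide)]
  rcases (show chevE6.commTerms 59 46 = [(62, 1, 1, 1)] ∨ chevE6.commTerms 59 46 = [(62, -1, 1, 1)] by decide +kernel) with e | e <;>
    simp [e, CharTwo.neg_eq, mul_assoc]

theorem q46_60 : X 46 u * (X 60 t * R) = X 60 t * (X 46 u * (X 63 (t * u) * R)) := by
  rw [swap (r := 60) (s := 46) (by decide) (by decide) (by decide) (by decide)]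
  rcases (show chevE6.commTerms 60 46 = [(63, 1, 1, 1)] ∨ chevE6.commTerms 60 46 = [(63, -1, 1, 1)] by decide +kernel) with e | e <;>
    simp [e, CharTwo.neg_eq, mul_assoc]

theorem q47_37 : X 47 u * (X 37 t * R) = X 37 t * (X 47 u * (X 48 (t * u) * R)) := by
  rw [swap (r := 37) (s := 47) (by decide) (by decide) (by decide) (by decide)]
  rcases (show chevE6.commTerms 37 47 = [(48, 1, 1, 1)] ∨ chevE6.commTerms 37 47 = [(48, -1, 1, 1)] by decide +kernel) with e | e <;>
    simp [e, CharTwo.neg_eq, mul_assoc]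

theorem q47_38 : X 47 u * (X 38 t * R) = X 38 t * (X 47 u * (X 49 (t * u) * R)) := by
  rw [swap (r := 38) (s := 47) (by decide) (by decide) (by decide) (by decide)]
  rcases (show chevE6.commTerms 38 47 = [(49, 1, 1, 1)] ∨ chevE6.commTerms 38 47 = [(49, -1, 1, 1)] by decide +kernel) with e | e <;>
    simp [e, CharTwo.neg_eq, mul_assoc]

theorem q47_42 : X 47 u * (X 42 t * R) = X 42 t * (X 47 u * (X 50 (t * u) * R)) := by
  rw [swap (r := 42) (s := 47) (by decide) (by decide) (by decide) (by decide)]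
  rcases (show chevE6.commTerms 42 47 = [(50, 1, 1, 1)] ∨ chevE6.commTerms 42 47 = [(50, -1, 1, 1)] by decide +kernel) with e | e <;>
    simp [e, CharTwo.neg_eq, mul_assoc]

theorem q47_44 : X 47 u * (X 44 t * R) = X 44 t * (X 47 u * (X 53 (t * u) * R)) := by
  rw [swap (r := 44) (s := 47) (by decide) (by decide) (by decide) (by decide)]
  rcases (show chevE6.commTerms 44 47 = [(53, 1, 1, 1)] ∨ chevE6.commTerms 44 47 = [(53, -1, 1, 1)] by decide +kernel) with e | e <;>
    simp [e, CharTwo.neg_eq, mul_assoc]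

theorem q47_45 : X 47 u * (X 45 t * R) = X 45 t * (X 47 u * (X 54 (t * u) * R)) := by
  rw [swap (r := 45) (s := 47) (by decide) (by decide) (by decide) (by decide)]
  rcases (show chevE6.commTerms 45 47 = [(54, 1, 1, 1)] ∨ chevE6.commTerms 45 47 = [(54, -1, 1, 1)] by decide +kernel) with e | e <;>
    simp [e, CharTwo.neg_eq, mul_assoc]

theorem q47_57 : X 47 u * (X 57 t * R) = X 57 t * (X 47 u * (X 61 (t * u) * R)) := by
  rw [swap (r := 57) (s := 47) (by decide) (by decide) (by decide) (by decide)]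
  rcases (show chevE6.commTerms 57 47 = [(61, 1, 1, 1)] ∨ chevE6.commTerms 57 47 = [(61, -1, 1, 1)] by decide +kernel) with e | e <;>
    simp [e, CharTwo.neg_eq, mul_assoc]

theorem q47_59 : X 47 u * (X 59 t * R) = X 59 t * (X 47 u * (X 64 (t * u) * R)) := by
  rw [swap (r := 59) (s := 47) (by decide) (by decide) (by decide) (by decide)]
  rcases (show chevE6.commTerms 59 47 = [(64, 1, 1, 1)] ∨ chevE6.commTerms 59 47 = [(64, -1, 1, 1)] by decide +kernel) with e | e <;>
    simp [e, CharTwo.neg_eq, mul_assoc]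

theorem q47_60 : X 47 u * (X 60 t * R) = X 60 t * (X 47 u * (X 65 (t * u) * R)) := by
  rw [swap (r := 60) (s := 47) (by decide) (by decide) (by decide) (by decide)]
  rcases (show chevE6.commTerms 60 47 = [(65, 1, 1, 1)] ∨ chevE6.commTerms 60 47 = [(65, -1, 1, 1)] by decide +kernel) with e | e <;>
    simp [e, CharTwo.neg_eq, mul_assoc]

theorem q48_36 : X 48 u * (X 36 t * R) = X 36 t * (X 48 u * (X 49 (t * u) * R)) := by
  rw [swap (r := 36) (s := 48) (by decide) (by decide) (by decide) (by decide)]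
  rcases (show chevE6.commTerms 36 48 = [(49, 1, 1, 1)] ∨ chevE6.commTerms 36 48 = [(49, -1, 1, 1)] by decide +kernel) with e | e <;>
    simp [e, CharTwo.neg_eq, mul_assoc]

theorem q48_37 : X 48 u * (X 37 t * R) = X 37 t * (X 48 u * R) :=
  flip (commute_X (by decide +kernel) _ _) R

theorem q48_38 : X 48 u * (X 38 t * R) = X 38 t * (X 48 u * R) :=
  flip (commute_X (by decide +kernel) _ _) R

theorem q48_40 : X 48 u * (X 40 t * R) = X 40 t * (X 48 u * R) :=
  flip (commute_X (by decide +kernel) _ _) R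

theorem q48_41 : X 48 u * (X 41 t * R) = X 41 t * (X 48 u * R) :=
  flip (commute_X (by decide +kernel) _ _) R

theorem q48_42 : X 48 u * (X 42 t * R) = X 42 t * (X 48 u * (X 51 (t * u) * R)) := by
  rw [swap (r := 42) (s := 48) (by decide) (by decide) (by decide) (by decide)]
  rcases (show chevE6.commTerms 42 48 = [(51, 1, 1, 1)] ∨ chevE6.commTerms 42 48 = [(51, -1, 1, 1)] by decide +kernel) with e | e <;>
    simp [e, CharTwo.neg_eq, mul_assoc]

theorem q48_43 : X 48 u * (X 43 t * R) = X 43 t * (X 48 u * (X 53 (t * u) * R)) := by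
  rw [swap (r := 43) (s := 48) (by decide) (by decide) (by decide) (by decide)]
  rcases (show chevE6.commTerms 43 48 = [(53, 1, 1, 1)] ∨ chevE6.commTerms 43 48 = [(53, -1, 1, 1)] by decide +kernel) with e | e <;>
    simp [e, CharTwo.neg_eq, mul_assoc]

theorem q48_45 : X 48 u * (X 45 t * R) = X 45 t * (X 48 u * (X 55 (t * u) * R)) := by
  rw [swap (r := 45) (s := 48) (by decide) (by decide) (by decide) (by decide)]
  rcases (show chevE6.commTerms 45 48 = [(55, 1, 1, 1)] ∨ chevE6.commTerms 45 48 = [(55, -1, 1, 1)] by decide +kernel) with e | e <;>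
    simp [e, CharTwo.neg_eq, mul_assoc]

theorem q48_56 : X 48 u * (X 56 t * R) = X 56 t * (X 48 u * R) :=
  flip (commute_X (by decide +kernel) _ _) R

theorem q48_57 : X 48 u * (X 57 t * R) = X 57 t * (X 48 u * (X 62 (t * u) * R)) := by
  rw [swap (r := 57) (s := 48) (by decide) (by decide) (by decide) (by decide)]
  rcases (show chevE6.commTerms 57 48 = [(62, 1, 1, 1)] ∨ chevE6.commTerms 57 48 = [(62, -1, 1, 1)] by decide +kernel) with e | e <;>
    simp [e, CharTwo.neg_eq, mul_assoc]

theorem q48_58 : X 48 u * (X 58 t * R) = X 58 t * (X 48 u * (X 64 (t * u) * R)) := by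
  rw [swap (r := 58) (s := 48) (by decide) (by decide) (by decide) (by decide)]
  rcases (show chevE6.commTerms 58 48 = [(64, 1, 1, 1)] ∨ chevE6.commTerms 58 48 = [(64, -1, 1, 1)] by decide +kernel) with e | e <;>
    simp [e, CharTwo.neg_eq, mul_assoc]

theorem q48_59 : X 48 u * (X 59 t * R) = X 59 t * (X 48 u * R) :=
  flip (commute_X (by decide +kernel) _ _) R

theorem q48_60 : X 48 u * (X 60 t * R) = X 60 t * (X 48 u * (X 66 (t * u) * R)) := by
  rw [swap (r := 60) (s := 48) (by decide) (by decide) (by decide) (by decide)]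
  rcases (show chevE6.commTerms 60 48 = [(66, 1, 1, 1)] ∨ chevE6.commTerms 60 48 = [(66, -1, 1, 1)] by decide +kernel) with e | e <;>
    simp [e, CharTwo.neg_eq, mul_assoc]

theorem q49_37 : X 49 u * (X 37 t * R) = X 37 t * (X 49 u * R) :=
  flip (commute_X (by decide +kernel) _ _) R

theorem q49_38 : X 49 u * (X 38 t * R) = X 38 t * (X 49 u * R) :=
  flip (commute_X (by decide +kernel) _ _) R

theorem q49_40 : X 49 u * (X 40 t * R) = X 40 t * (X 49 u * R) :=
  flip (commute_X (by decide +kernel) _ _) R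

theorem q49_41 : X 49 u * (X 41 t * R) = X 41 t * (X 49 u * R) :=
  flip (commute_X (by decide +kernel) _ _) R

theorem q49_42 : X 49 u * (X 42 t * R) = X 42 t * (X 49 u * (X 52 (t * u) * R)) := by
  rw [swap (r := 42) (s := 49) (by decide) (by decide) (by decide) (by decide)]
  rcases (show chevE6.commTerms 42 49 = [(52, 1, 1, 1)] ∨ chevE6.commTerms 42 49 = [(52, -1, 1, 1)] by decide +kernel) with e | e <;>
    simp [e, CharTwo.neg_eq, mul_assoc]

theorem q49_43 : X 49 u * (X 43 t * R) = X 43 t * (X 49 u * (X 54 (t * u) * R)) := by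
  rw [swap (r := 43) (s := 49) (by decide) (by decide) (by decide) (by decide)]
  rcases (show chevE6.commTerms 43 49 = [(54, 1, 1, 1)] ∨ chevE6.commTerms 43 49 = [(54, -1, 1, 1)] by decide +kernel) with e | e <;>
    simp [e, CharTwo.neg_eq, mul_assoc]

theorem q49_44 : X 49 u * (X 44 t * R) = X 44 t * (X 49 u * (X 55 (t * u) * R)) := by
  rw [swap (r := 44) (s := 49) (by decide) (by decide) (by decide) (by decide)]
  rcases (show chevE6.commTerms 44 49 = [(55, 1, 1, 1)] ∨ chevE6.commTerms 44 49 = [(55, -1, 1, 1)] by decide +kernel) with e | e <;>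
    simp [e, CharTwo.neg_eq, mul_assoc]

theorem q49_45 : X 49 u * (X 45 t * R) = X 45 t * (X 49 u * R) :=
  flip (commute_X (by decide +kernel) _ _) R

theorem q49_50 : X 49 u * (X 50 t * R) = X 50 t * (X 49 u * R) :=
  flip (commute_X (by decide +kernel) _ _) R

theorem q49_56 : X 49 u * (X 56 t * R) = X 56 t * (X 49 u * R) :=
  flip (commute_X (by decide +kernel) _ _) R

theorem q49_57 : X 49 u * (X 57 t * R) = X 57 t * (X 49 u * (X 63 (t * u) * R)) := by
  rw [swap (r := 57) (s := 49) (by decide) (by decide) (by decide) (by decide)]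
  rcases (show chevE6.commTerms 57 49 = [(63, 1, 1, 1)] ∨ chevE6.commTerms 57 49 = [(63, -1, 1, 1)] by decide +kernel) with e | e <;>
    simp [e, CharTwo.neg_eq, mul_assoc]

theorem q49_58 : X 49 u * (X 58 t * R) = X 58 t * (X 49 u * (X 65 (t * u) * R)) := by
  rw [swap (r := 58) (s := 49) (by decide) (by decide) (by decide) (by decide)]
  rcases (show chevE6.commTerms 58 49 = [(65, 1, 1, 1)] ∨ chevE6.commTerms 58 49 = [(65, -1, 1, 1)] by decide +kernel) with e | e <;>
    simp [e, CharTwo.neg_eq, mul_assoc]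

theorem q49_59 : X 49 u * (X 59 t * R) = X 59 t * (X 49 u * (X 66 (t * u) * R)) := by
  rw [swap (r := 59) (s := 49) (by decide) (by decide) (by decide) (by decide)]
  rcases (show chevE6.commTerms 59 49 = [(66, 1, 1, 1)] ∨ chevE6.commTerms 59 49 = [(66, -1, 1, 1)] by decide +kernel) with e | e <;>
    simp [e, CharTwo.neg_eq, mul_assoc]

theorem q50_36 : X 50 u * (X 36 t * R) = X 36 t * (X 50 u * R) :=
  flip (commute_X (by decide +kernel) _ _) R

theorem q50_37 : X 50 u * (X 37 t * R) = X 37 t * (X 50 u * (X 51 (t * u) * R)) := by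
  rw [swap (r := 37) (s := 50) (by decide) (by decide) (by decide) (by decide)]
  rcases (show chevE6.commTerms 37 50 = [(51, 1, 1, 1)] ∨ chevE6.commTerms 37 50 = [(51, -1, 1, 1)] by decide +kernel) with e | e <;>
    simp [e, CharTwo.neg_eq, mul_assoc]

theorem q50_38 : X 50 u * (X 38 t * R) = X 38 t * (X 50 u * (X 52 (t * u) * R)) := by
  rw [swap (r := 38) (s := 50) (by decide) (by decide) (by decide) (by decide)]
  rcases (show chevE6.commTerms 38 50 = [(52, 1, 1, 1)] ∨ chevE6.commTerms 38 50 = [(52, -1, 1, 1)] by decide +kernel) with e | e <;>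
    simp [e, CharTwo.neg_eq, mul_assoc]

theorem q50_40 : X 50 u * (X 40 t * R) = X 40 t * (X 50 u * (X 53 (t * u) * R)) := by
  rw [swap (r := 40) (s := 50) (by decide) (by decide) (by decide) (by decide)]
  rcases (show chevE6.commTerms 40 50 = [(53, 1, 1, 1)] ∨ chevE6.commTerms 40 50 = [(53, -1, 1, 1)] by decide +kernel) with e | e <;>
    simp [e, CharTwo.neg_eq, mul_assoc]

theorem q50_41 : X 50 u * (X 41 t * R) = X 41 t * (X 50 u * (X 54 (t * u) * R)) := by
  rw [swap (r := 41) (s := 50) (by decide) (by decide) (by decide) (by decide)]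
  rcases (show chevE6.commTerms 41 50 = [(54, 1, 1, 1)] ∨ chevE6.commTerms 41 50 = [(54, -1, 1, 1)] by decide +kernel) with e | e <;>
    simp [e, CharTwo.neg_eq, mul_assoc]

theorem q50_42 : X 50 u * (X 42 t * R) = X 42 t * (X 50 u * R) :=
  flip (commute_X (by decide +kernel) _ _) R

theorem q50_43 : X 50 u * (X 43 t * R) = X 43 t * (X 50 u * R) :=
  flip (commute_X (by decide +kernel) _ _) R

theorem q50_45 : X 50 u * (X 45 t * R) = X 45 t * (X 50 u * R) :=
  flip (commute_X (by decide +kernel) _ _) R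

theorem q50_48 : X 50 u * (X 48 t * R) = X 48 t * (X 50 u * R) :=
  flip (commute_X (by decide +kernel) _ _) R

theorem q50_56 : X 50 u * (X 56 t * R) = X 56 t * (X 50 u * (X 61 (t * u) * R)) := by
  rw [swap (r := 56) (s := 50) (by decide) (by decide) (by decide) (by decide)]
  rcases (show chevE6.commTerms 56 50 = [(61, 1, 1, 1)] ∨ chevE6.commTerms 56 50 = [(61, -1, 1, 1)] by decide +kernel) with e | e <;>
    simp [e, CharTwo.neg_eq, mul_assoc]

theorem q50_57 : X 50 u * (X 57 t * R) = X 57 t * (X 50 u * R) :=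
  flip (commute_X (by decide +kernel) _ _) R

theorem q50_58 : X 50 u * (X 58 t * R) = X 58 t * (X 50 u * R) :=
  flip (commute_X (by decide +kernel) _ _) R

theorem q50_59 : X 50 u * (X 59 t * R) = X 59 t * (X 50 u * (X 67 (t * u) * R)) := by
  rw [swap (r := 59) (s := 50) (by decide) (by decide) (by decide) (by decide)]
  rcases (show chevE6.commTerms 59 50 = [(67, 1, 1, 1)] ∨ chevE6.commTerms 59 50 = [(67, -1, 1, 1)] by decide +kernel) with e | e <;>
    simp [e, CharTwo.neg_eq, mul_assoc]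

theorem q50_60 : X 50 u * (X 60 t * R) = X 60 t * (X 50 u * (X 68 (t * u) * R)) := by
  rw [swap (r := 60) (s := 50) (by decide) (by decide) (by decide) (by decide)]
  rcases (show chevE6.commTerms 60 50 = [(68, 1, 1, 1)] ∨ chevE6.commTerms 60 50 = [(68, -1, 1, 1)] by decide +kernel) with e | e <;>
    simp [e, CharTwo.neg_eq, mul_assoc]

theorem q51_36 : X 51 u * (X 36 t * R) = X 36 t * (X 51 u * (X 52 (t * u) * R)) := by
  rw [swap (r := 36) (s := 51) (by decide) (by decide) (by decide) (by decide)]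
  rcases (show chevE6.commTerms 36 51 = [(52, 1, 1, 1)] ∨ chevE6.commTerms 36 51 = [(52, -1, 1, 1)] by decide +kernel) with e | e <;>
    simp [e, CharTwo.neg_eq, mul_assoc]

theorem q51_39 : X 51 u * (X 39 t * R) = X 39 t * (X 51 u * (X 53 (t * u) * R)) := by
  rw [swap (r := 39) (s := 51) (by decide) (by decide) (by decide) (by decide)]
  rcases (show chevE6.commTerms 39 51 = [(53, 1, 1, 1)] ∨ chevE6.commTerms 39 51 = [(53, -1, 1, 1)] by decide +kernel) with e | e <;>
    simp [e, CharTwo.neg_eq, mul_assoc]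

theorem q51_41 : X 51 u * (X 41 t * R) = X 41 t * (X 51 u * (X 55 (t * u) * R)) := by
  rw [swap (r := 41) (s := 51) (by decide) (by decide) (by decide) (by decide)]
  rcases (show chevE6.commTerms 41 51 = [(55, 1, 1, 1)] ∨ chevE6.commTerms 41 51 = [(55, -1, 1, 1)] by decide +kernel) with e | e <;>
    simp [e, CharTwo.neg_eq, mul_assoc]

theorem q51_42 : X 51 u * (X 42 t * R) = X 42 t * (X 51 u * R) :=
  flip (commute_X (by decide +kernel) _ _) R

theorem q51_50 : X 51 u * (X 50 t * R) = X 50 t * (X 51 u * R) :=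
  flip (commute_X (by decide +kernel) _ _) R

theorem q51_56 : X 51 u * (X 56 t * R) = X 56 t * (X 51 u * (X 62 (t * u) * R)) := by
  rw [swap (r := 56) (s := 51) (by decide) (by decide) (by decide) (by decide)]
  rcases (show chevE6.commTerms 56 51 = [(62, 1, 1, 1)] ∨ chevE6.commTerms 56 51 = [(62, -1, 1, 1)] by decide +kernel) with e | e <;>
    simp [e, CharTwo.neg_eq, mul_assoc]

theorem q51_58 : X 51 u * (X 58 t * R) = X 58 t * (X 51 u * (X 67 (t * u) * R)) := by
  rw [swap (r := 58) (s := 51) (by decide) (by decide) (by decide) (by decide)]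
  rcases (show chevE6.commTerms 58 51 = [(67, 1, 1, 1)] ∨ chevE6.commTerms 58 51 = [(67, -1, 1, 1)] by decide +kernel) with e | e <;>
    simp [e, CharTwo.neg_eq, mul_assoc]

theorem q51_60 : X 51 u * (X 60 t * R) = X 60 t * (X 51 u * (X 69 (t * u) * R)) := by
  rw [swap (r := 60) (s := 51) (by decide) (by decide) (by decide) (by decide)]
  rcases (show chevE6.commTerms 60 51 = [(69, 1, 1, 1)] ∨ chevE6.commTerms 60 51 = [(69, -1, 1, 1)] by decide +kernel) with e | e <;>
    simp [e, CharTwo.neg_eq, mul_assoc]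

theorem q52_36 : X 52 u * (X 36 t * R) = X 36 t * (X 52 u * R) :=
  flip (commute_X (by decide +kernel) _ _) R

theorem q52_39 : X 52 u * (X 39 t * R) = X 39 t * (X 52 u * (X 54 (t * u) * R)) := by
  rw [swap (r := 39) (s := 52) (by decide) (by decide) (by decide) (by decide)]
  rcases (show chevE6.commTerms 39 52 = [(54, 1, 1, 1)] ∨ chevE6.commTerms 39 52 = [(54, -1, 1, 1)] by decide +kernel) with e | e <;>
    simp [e, CharTwo.neg_eq, mul_assoc]

theorem q52_40 : X 52 u * (X 40 t * R) = X 40 t * (X 52 u * (X 55 (t * u) * R)) := by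
  rw [swap (r := 40) (s := 52) (by decide) (by decide) (by decide) (by decide)]
  rcases (show chevE6.commTerms 40 52 = [(55, 1, 1, 1)] ∨ chevE6.commTerms 40 52 = [(55, -1, 1, 1)] by decide +kernel) with e | e <;>
    simp [e, CharTwo.neg_eq, mul_assoc]

theorem q52_41 : X 52 u * (X 41 t * R) = X 41 t * (X 52 u * R) :=
  flip (commute_X (by decide +kernel) _ _) R

theorem q52_43 : X 52 u * (X 43 t * R) = X 43 t * (X 52 u * R) :=
  flip (commute_X (by decide +kernel) _ _) R

theorem q52_45 : X 52 u * (X 45 t * R) = X 45 t * (X 52 u * R) :=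
  flip (commute_X (by decide +kernel) _ _) R

theorem q52_56 : X 52 u * (X 56 t * R) = X 56 t * (X 52 u * (X 63 (t * u) * R)) := by
  rw [swap (r := 56) (s := 52) (by decide) (by decide) (by decide) (by decide)]
  rcases (show chevE6.commTerms 56 52 = [(63, 1, 1, 1)] ∨ chevE6.commTerms 56 52 = [(63, -1, 1, 1)] by decide +kernel) with e | e <;>
    simp [e, CharTwo.neg_eq, mul_assoc]

theorem q52_57 : X 52 u * (X 57 t * R) = X 57 t * (X 52 u * R) :=
  flip (commute_X (by decide +kernel) _ _) R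

theorem q52_58 : X 52 u * (X 58 t * R) = X 58 t * (X 52 u * (X 68 (t * u) * R)) := by
  rw [swap (r := 58) (s := 52) (by decide) (by decide) (by decide) (by decide)]
  rcases (show chevE6.commTerms 58 52 = [(68, 1, 1, 1)] ∨ chevE6.commTerms 58 52 = [(68, -1, 1, 1)] by decide +kernel) with e | e <;>
    simp [e, CharTwo.neg_eq, mul_assoc]

theorem q52_59 : X 52 u * (X 59 t * R) = X 59 t * (X 52 u * (X 69 (t * u) * R)) := by
  rw [swap (r := 59) (s := 52) (by decide) (by decide) (by decide) (by decide)]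
  rcases (show chevE6.commTerms 59 52 = [(69, 1, 1, 1)] ∨ chevE6.commTerms 59 52 = [(69, -1, 1, 1)] by decide +kernel) with e | e <;>
    simp [e, CharTwo.neg_eq, mul_assoc]

theorem q52_61 : X 52 u * (X 61 t * R) = X 61 t * (X 52 u * R) :=
  flip (commute_X (by decide +kernel) _ _) R

theorem q53_36 : X 53 u * (X 36 t * R) = X 36 t * (X 53 u * (X 54 (t * u) * R)) := by
  rw [swap (r := 36) (s := 53) (by decide) (by decide) (by decide) (by decide)]
  rcases (show chevE6.commTerms 36 53 = [(54, 1, 1, 1)] ∨ chevE6.commTerms 36 53 = [(54, -1, 1, 1)] by decide +kernel) with e | e <;>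
    simp [e, CharTwo.neg_eq, mul_assoc]

theorem q53_38 : X 53 u * (X 38 t * R) = X 38 t * (X 53 u * (X 55 (t * u) * R)) := by
  rw [swap (r := 38) (s := 53) (by decide) (by decide) (by decide) (by decide)]
  rcases (show chevE6.commTerms 38 53 = [(55, 1, 1, 1)] ∨ chevE6.commTerms 38 53 = [(55, -1, 1, 1)] by decide +kernel) with e | e <;>
    simp [e, CharTwo.neg_eq, mul_assoc]

theorem q53_43 : X 53 u * (X 43 t * R) = X 43 t * (X 53 u * R) :=
  flip (commute_X (by decide +kernel) _ _) R

theorem q53_50 : X 53 u * (X 50 t * R) = X 50 t * (X 53 u * R) :=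
  flip (commute_X (by decide +kernel) _ _) R

theorem q53_56 : X 53 u * (X 56 t * R) = X 56 t * (X 53 u * (X 64 (t * u) * R)) := by
  rw [swap (r := 56) (s := 53) (by decide) (by decide) (by decide) (by decide)]
  rcases (show chevE6.commTerms 56 53 = [(64, 1, 1, 1)] ∨ chevE6.commTerms 56 53 = [(64, -1, 1, 1)] by decide +kernel) with e | e <;>
    simp [e, CharTwo.neg_eq, mul_assoc]

theorem q53_57 : X 53 u * (X 57 t * R) = X 57 t * (X 53 u * (X 67 (t * u) * R)) := by
  rw [swap (r := 57) (s := 53) (by decide) (by decide) (by decide) (by decide)]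
  rcases (show chevE6.commTerms 57 53 = [(67, 1, 1, 1)] ∨ chevE6.commTerms 57 53 = [(67, -1, 1, 1)] by decide +kernel) with e | e <;>
    simp [e, CharTwo.neg_eq, mul_assoc]

theorem q53_60 : X 53 u * (X 60 t * R) = X 60 t * (X 53 u * (X 70 (t * u) * R)) := by
  rw [swap (r := 60) (s := 53) (by decide) (by decide) (by decide) (by decide)]
  rcases (show chevE6.commTerms 60 53 = [(70, 1, 1, 1)] ∨ chevE6.commTerms 60 53 = [(70, -1, 1, 1)] by decide +kernel) with e | e <;>
    simp [e, CharTwo.neg_eq, mul_assoc]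

theorem q54_36 : X 54 u * (X 36 t * R) = X 36 t * (X 54 u * R) :=
  flip (commute_X (by decide +kernel) _ _) R

theorem q54_37 : X 54 u * (X 37 t * R) = X 37 t * (X 54 u * (X 55 (t * u) * R)) := by
  rw [swap (r := 37) (s := 54) (by decide) (by decide) (by decide) (by decide)]
  rcases (show chevE6.commTerms 37 54 = [(55, 1, 1, 1)] ∨ chevE6.commTerms 37 54 = [(55, -1, 1, 1)] by decide +kernel) with e | e <;>
    simp [e, CharTwo.neg_eq, mul_assoc]

theorem q54_38 : X 54 u * (X 38 t * R) = X 38 t * (X 54 u * R) :=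
  flip (commute_X (by decide +kernel) _ _) R

theorem q54_42 : X 54 u * (X 42 t * R) = X 42 t * (X 54 u * R) :=
  flip (commute_X (by decide +kernel) _ _) R

theorem q54_45 : X 54 u * (X 45 t * R) = X 45 t * (X 54 u * R) :=
  flip (commute_X (by decide +kernel) _ _) R

theorem q54_52 : X 54 u * (X 52 t * R) = X 52 t * (X 54 u * R) :=
  flip (commute_X (by decide +kernel) _ _) R

theorem q54_56 : X 54 u * (X 56 t * R) = X 56 t * (X 54 u * (X 65 (t * u) * R)) := by
  rw [swap (r := 56) (s := 54) (by decide) (by decide) (by decide) (by decide)]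
  rcases (show chevE6.commTerms 56 54 = [(65, 1, 1, 1)] ∨ chevE6.commTerms 56 54 = [(65, -1, 1, 1)] by decide +kernel) with e | e <;>
    simp [e, CharTwo.neg_eq, mul_assoc]

theorem q54_57 : X 54 u * (X 57 t * R) = X 57 t * (X 54 u * (X 68 (t * u) * R)) := by
  rw [swap (r := 57) (s := 54) (by decide) (by decide) (by decide) (by decide)]
  rcases (show chevE6.commTerms 57 54 = [(68, 1, 1, 1)] ∨ chevE6.commTerms 57 54 = [(68, -1, 1, 1)] by decide +kernel) with e | e <;>
    simp [e, CharTwo.neg_eq, mul_assoc]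

theorem q54_58 : X 54 u * (X 58 t * R) = X 58 t * (X 54 u * R) :=
  flip (commute_X (by decide +kernel) _ _) R

theorem q54_59 : X 54 u * (X 59 t * R) = X 59 t * (X 54 u * (X 70 (t * u) * R)) := by
  rw [swap (r := 59) (s := 54) (by decide) (by decide) (by decide) (by decide)]
  rcases (show chevE6.commTerms 59 54 = [(70, 1, 1, 1)] ∨ chevE6.commTerms 59 54 = [(70, -1, 1, 1)] by decide +kernel) with e | e <;>
    simp [e, CharTwo.neg_eq, mul_assoc]

theorem q54_61 : X 54 u * (X 61 t * R) = X 61 t * (X 54 u * R) :=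
  flip (commute_X (by decide +kernel) _ _) R

theorem q54_62 : X 54 u * (X 62 t * R) = X 62 t * (X 54 u * (X 71 (t * u) * R)) := by
  rw [swap (r := 62) (s := 54) (by decide) (by decide) (by decide) (by decide)]
  rcases (show chevE6.commTerms 62 54 = [(71, 1, 1, 1)] ∨ chevE6.commTerms 62 54 = [(71, -1, 1, 1)] by decide +kernel) with e | e <;>
    simp [e, CharTwo.neg_eq, mul_assoc]

theorem q55_36 : X 55 u * (X 36 t * R) = X 36 t * (X 55 u * R) :=
  flip (commute_X (by decide +kernel) _ _) R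

theorem q55_38 : X 55 u * (X 38 t * R) = X 38 t * (X 55 u * R) :=
  flip (commute_X (by decide +kernel) _ _) R

theorem q55_41 : X 55 u * (X 41 t * R) = X 41 t * (X 55 u * R) :=
  flip (commute_X (by decide +kernel) _ _) R

theorem q55_42 : X 55 u * (X 42 t * R) = X 42 t * (X 55 u * R) :=
  flip (commute_X (by decide +kernel) _ _) R

theorem q55_43 : X 55 u * (X 43 t * R) = X 43 t * (X 55 u * R) :=
  flip (commute_X (by decide +kernel) _ _) R

theorem q55_49 : X 55 u * (X 49 t * R) = X 49 t * (X 55 u * R) :=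
  flip (commute_X (by decide +kernel) _ _) R

theorem q55_50 : X 55 u * (X 50 t * R) = X 50 t * (X 55 u * R) :=
  flip (commute_X (by decide +kernel) _ _) R

theorem q55_56 : X 55 u * (X 56 t * R) = X 56 t * (X 55 u * (X 66 (t * u) * R)) := by
  rw [swap (r := 56) (s := 55) (by decide) (by decide) (by decide) (by decide)]
  rcases (show chevE6.commTerms 56 55 = [(66, 1, 1, 1)] ∨ chevE6.commTerms 56 55 = [(66, -1, 1, 1)] by decide +kernel) with e | e <;>
    simp [e, CharTwo.neg_eq, mul_assoc]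

theorem q55_57 : X 55 u * (X 57 t * R) = X 57 t * (X 55 u * (X 69 (t * u) * R)) := by
  rw [swap (r := 57) (s := 55) (by decide) (by decide) (by decide) (by decide)]
  rcases (show chevE6.commTerms 57 55 = [(69, 1, 1, 1)] ∨ chevE6.commTerms 57 55 = [(69, -1, 1, 1)] by decide +kernel) with e | e <;>
    simp [e, CharTwo.neg_eq, mul_assoc]

theorem q55_58 : X 55 u * (X 58 t * R) = X 58 t * (X 55 u * (X 70 (t * u) * R)) := by
  rw [swap (r := 58) (s := 55) (by decide) (by decide) (by decide) (by decide)]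
  rcases (show chevE6.commTerms 58 55 = [(70, 1, 1, 1)] ∨ chevE6.commTerms 58 55 = [(70, -1, 1, 1)] by decide +kernel) with e | e <;>
    simp [e, CharTwo.neg_eq, mul_assoc]

theorem q55_59 : X 55 u * (X 59 t * R) = X 59 t * (X 55 u * R) :=
  flip (commute_X (by decide +kernel) _ _) R

theorem q55_61 : X 55 u * (X 61 t * R) = X 61 t * (X 55 u * (X 71 (t * u) * R)) := by
  rw [swap (r := 61) (s := 55) (by decide) (by decide) (by decide) (by decide)]
  rcases (show chevE6.commTerms 61 55 = [(71, 1, 1, 1)] ∨ chevE6.commTerms 61 55 = [(71, -1, 1, 1)] by decide +kernel) with e | e <;>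
    simp [e, CharTwo.neg_eq, mul_assoc]

theorem q55_62 : X 55 u * (X 62 t * R) = X 62 t * (X 55 u * R) :=
  flip (commute_X (by decide +kernel) _ _) R

theorem q55_64 : X 55 u * (X 64 t * R) = X 64 t * (X 55 u * R) :=
  flip (commute_X (by decide +kernel) _ _) R

theorem q57_38 : X 57 u * (X 38 t * R) = X 38 t * (X 57 u * R) :=
  flip (commute_X (by decide +kernel) _ _) R

theorem q58_37 : X 58 u * (X 37 t * R) = X 37 t * (X 58 u * (X 59 (t * u) * R)) := by
  rw [swap (r := 37) (s := 58) (by decide) (by decide) (by decide) (by decide)]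
  rcases (show chevE6.commTerms 37 58 = [(59, 1, 1, 1)] ∨ chevE6.commTerms 37 58 = [(59, -1, 1, 1)] by decide +kernel) with e | e <;>
    simp [e, CharTwo.neg_eq, mul_assoc]

theorem q58_38 : X 58 u * (X 38 t * R) = X 38 t * (X 58 u * (X 60 (t * u) * R)) := by
  rw [swap (r := 38) (s := 58) (by decide) (by decide) (by decide) (by decide)]
  rcases (show chevE6.commTerms 38 58 = [(60, 1, 1, 1)] ∨ chevE6.commTerms 38 58 = [(60, -1, 1, 1)] by decide +kernel) with e | e <;>
    simp [e, CharTwo.neg_eq, mul_assoc]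

theorem q58_41 : X 58 u * (X 41 t * R) = X 41 t * (X 58 u * R) :=
  flip (commute_X (by decide +kernel) _ _) R

theorem q58_42 : X 58 u * (X 42 t * R) = X 42 t * (X 58 u * R) :=
  flip (commute_X (by decide +kernel) _ _) R

theorem q58_57 : X 58 u * (X 57 t * R) = X 57 t * (X 58 u * R) :=
  flip (commute_X (by decide +kernel) _ _) R

theorem q59_36 : X 59 u * (X 36 t * R) = X 36 t * (X 59 u * (X 60 (t * u) * R)) := by
  rw [swap (r := 36) (s := 59) (by decide) (by decide) (by decide) (by decide)]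
  rcases (show chevE6.commTerms 36 59 = [(60, 1, 1, 1)] ∨ chevE6.commTerms 36 59 = [(60, -1, 1, 1)] by decide +kernel) with e | e <;>
    simp [e, CharTwo.neg_eq, mul_assoc]

theorem q59_42 : X 59 u * (X 42 t * R) = X 42 t * (X 59 u * R) :=
  flip (commute_X (by decide +kernel) _ _) R

theorem q59_43 : X 59 u * (X 43 t * R) = X 43 t * (X 59 u * R) :=
  flip (commute_X (by decide +kernel) _ _) R

theorem q59_45 : X 59 u * (X 45 t * R) = X 45 t * (X 59 u * R) :=
  flip (commute_X (by decide +kernel) _ _) R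

theorem q59_56 : X 59 u * (X 56 t * R) = X 56 t * (X 59 u * R) :=
  flip (commute_X (by decide +kernel) _ _) R

theorem q60_56 : X 60 u * (X 56 t * R) = X 56 t * (X 60 u * R) :=
  flip (commute_X (by decide +kernel) _ _) R

theorem q60_57 : X 60 u * (X 57 t * R) = X 57 t * (X 60 u * R) :=
  flip (commute_X (by decide +kernel) _ _) R

theorem q60_58 : X 60 u * (X 58 t * R) = X 58 t * (X 60 u * R) :=
  flip (commute_X (by decide +kernel) _ _) R

theorem q60_59 : X 60 u * (X 59 t * R) = X 59 t * (X 60 u * R) :=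
  flip (commute_X (by decide +kernel) _ _) R

theorem q61_37 : X 61 u * (X 37 t * R) = X 37 t * (X 61 u * (X 62 (t * u) * R)) := by
  rw [swap (r := 37) (s := 61) (by decide) (by decide) (by decide) (by decide)]
  rcases (show chevE6.commTerms 37 61 = [(62, 1, 1, 1)] ∨ chevE6.commTerms 37 61 = [(62, -1, 1, 1)] by decide +kernel) with e | e <;>
    simp [e, CharTwo.neg_eq, mul_assoc]

theorem q61_38 : X 61 u * (X 38 t * R) = X 38 t * (X 61 u * (X 63 (t * u) * R)) := by
  rw [swap (r := 38) (s := 61) (by decide) (by decide) (by decide) (by decide)]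
  rcases (show chevE6.commTerms 38 61 = [(63, 1, 1, 1)] ∨ chevE6.commTerms 38 61 = [(63, -1, 1, 1)] by decide +kernel) with e | e <;>
    simp [e, CharTwo.neg_eq, mul_assoc]

theorem q61_40 : X 61 u * (X 40 t * R) = X 40 t * (X 61 u * (X 64 (t * u) * R)) := by
  rw [swap (r := 40) (s := 61) (by decide) (by decide) (by decide) (by decide)]
  rcases (show chevE6.commTerms 40 61 = [(64, 1, 1, 1)] ∨ chevE6.commTerms 40 61 = [(64, -1, 1, 1)] by decide +kernel) with e | e <;>
    simp [e, CharTwo.neg_eq, mul_assoc]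

theorem q61_41 : X 61 u * (X 41 t * R) = X 41 t * (X 61 u * (X 65 (t * u) * R)) := by
  rw [swap (r := 41) (s := 61) (by decide) (by decide) (by decide) (by decide)]
  rcases (show chevE6.commTerms 41 61 = [(65, 1, 1, 1)] ∨ chevE6.commTerms 41 61 = [(65, -1, 1, 1)] by decide +kernel) with e | e <;>
    simp [e, CharTwo.neg_eq, mul_assoc]

theorem q61_42 : X 61 u * (X 42 t * R) = X 42 t * (X 61 u * R) :=
  flip (commute_X (by decide +kernel) _ _) R

theorem q61_43 : X 61 u * (X 43 t * R) = X 43 t * (X 61 u * R) :=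
  flip (commute_X (by decide +kernel) _ _) R

theorem q61_44 : X 61 u * (X 44 t * R) = X 44 t * (X 61 u * (X 67 (t * u) * R)) := by
  rw [swap (r := 44) (s := 61) (by decide) (by decide) (by decide) (by decide)]
  rcases (show chevE6.commTerms 44 61 = [(67, 1, 1, 1)] ∨ chevE6.commTerms 44 61 = [(67, -1, 1, 1)] by decide +kernel) with e | e <;>
    simp [e, CharTwo.neg_eq, mul_assoc]

theorem q61_45 : X 61 u * (X 45 t * R) = X 45 t * (X 61 u * (X 68 (t * u) * R)) := by
  rw [swap (r := 45) (s := 61) (by decide) (by decide) (by decide) (by decide)]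
  rcases (show chevE6.commTerms 45 61 = [(68, 1, 1, 1)] ∨ chevE6.commTerms 45 61 = [(68, -1, 1, 1)] by decide +kernel) with e | e <;>
    simp [e, CharTwo.neg_eq, mul_assoc]

theorem q61_49 : X 61 u * (X 49 t * R) = X 49 t * (X 61 u * R) :=
  flip (commute_X (by decide +kernel) _ _) R

theorem q61_57 : X 61 u * (X 57 t * R) = X 57 t * (X 61 u * R) :=
  flip (commute_X (by decide +kernel) _ _) R

theorem q61_58 : X 61 u * (X 58 t * R) = X 58 t * (X 61 u * R) :=
  flip (commute_X (by decide +kernel) _ _) R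

theorem q61_59 : X 61 u * (X 59 t * R) = X 59 t * (X 61 u * R) :=
  flip (commute_X (by decide +kernel) _ _) R

theorem q62_36 : X 62 u * (X 36 t * R) = X 36 t * (X 62 u * (X 63 (t * u) * R)) := by
  rw [swap (r := 36) (s := 62) (by decide) (by decide) (by decide) (by decide)]
  rcases (show chevE6.commTerms 36 62 = [(63, 1, 1, 1)] ∨ chevE6.commTerms 36 62 = [(63, -1, 1, 1)] by decide +kernel) with e | e <;>
    simp [e, CharTwo.neg_eq, mul_assoc]

theorem q62_39 : X 62 u * (X 39 t * R) = X 39 t * (X 62 u * (X 64 (t * u) * R)) := by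
  rw [swap (r := 39) (s := 62) (by decide) (by decide) (by decide) (by decide)]
  rcases (show chevE6.commTerms 39 62 = [(64, 1, 1, 1)] ∨ chevE6.commTerms 39 62 = [(64, -1, 1, 1)] by decide +kernel) with e | e <;>
    simp [e, CharTwo.neg_eq, mul_assoc]

theorem q62_40 : X 62 u * (X 40 t * R) = X 40 t * (X 62 u * R) :=
  flip (commute_X (by decide +kernel) _ _) R

theorem q62_41 : X 62 u * (X 41 t * R) = X 41 t * (X 62 u * (X 66 (t * u) * R)) := by
  rw [swap (r := 41) (s := 62) (by decide) (by decide) (by decide) (by decide)]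
  rcases (show chevE6.commTerms 41 62 = [(66, 1, 1, 1)] ∨ chevE6.commTerms 41 62 = [(66, -1, 1, 1)] by decide +kernel) with e | e <;>
    simp [e, CharTwo.neg_eq, mul_assoc]

theorem q62_42 : X 62 u * (X 42 t * R) = X 42 t * (X 62 u * R) :=
  flip (commute_X (by decide +kernel) _ _) R

theorem q62_43 : X 62 u * (X 43 t * R) = X 43 t * (X 62 u * (X 67 (t * u) * R)) := by
  rw [swap (r := 43) (s := 62) (by decide) (by decide) (by decide) (by decide)]
  rcases (show chevE6.commTerms 43 62 = [(67, 1, 1, 1)] ∨ chevE6.commTerms 43 62 = [(67, -1, 1, 1)] by decide +kernel) with e | e <;>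
    simp [e, CharTwo.neg_eq, mul_assoc]

theorem q62_45 : X 62 u * (X 45 t * R) = X 45 t * (X 62 u * (X 69 (t * u) * R)) := by
  rw [swap (r := 45) (s := 62) (by decide) (by decide) (by decide) (by decide)]
  rcases (show chevE6.commTerms 45 62 = [(69, 1, 1, 1)] ∨ chevE6.commTerms 45 62 = [(69, -1, 1, 1)] by decide +kernel) with e | e <;>
    simp [e, CharTwo.neg_eq, mul_assoc]

theorem q62_50 : X 62 u * (X 50 t * R) = X 50 t * (X 62 u * R) :=
  flip (commute_X (by decide +kernel) _ _) R

theorem q62_52 : X 62 u * (X 52 t * R) = X 52 t * (X 62 u * R) :=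
  flip (commute_X (by decide +kernel) _ _) R

theorem q62_56 : X 62 u * (X 56 t * R) = X 56 t * (X 62 u * R) :=
  flip (commute_X (by decide +kernel) _ _) R

theorem q62_58 : X 62 u * (X 58 t * R) = X 58 t * (X 62 u * R) :=
  flip (commute_X (by decide +kernel) _ _) R

theorem q62_59 : X 62 u * (X 59 t * R) = X 59 t * (X 62 u * R) :=
  flip (commute_X (by decide +kernel) _ _) R

theorem q63_39 : X 63 u * (X 39 t * R) = X 39 t * (X 63 u * (X 65 (t * u) * R)) := by
  rw [swap (r := 39) (s := 63) (by decide) (by decide) (by decide) (by decide)]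
  rcases (show chevE6.commTerms 39 63 = [(65, 1, 1, 1)] ∨ chevE6.commTerms 39 63 = [(65, -1, 1, 1)] by decide +kernel) with e | e <;>
    simp [e, CharTwo.neg_eq, mul_assoc]

theorem q63_40 : X 63 u * (X 40 t * R) = X 40 t * (X 63 u * (X 66 (t * u) * R)) := by
  rw [swap (r := 40) (s := 63) (by decide) (by decide) (by decide) (by decide)]
  rcases (show chevE6.commTerms 40 63 = [(66, 1, 1, 1)] ∨ chevE6.commTerms 40 63 = [(66, -1, 1, 1)] by decide +kernel) with e | e <;>
    simp [e, CharTwo.neg_eq, mul_assoc]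

theorem q63_43 : X 63 u * (X 43 t * R) = X 43 t * (X 63 u * (X 68 (t * u) * R)) := by
  rw [swap (r := 43) (s := 63) (by decide) (by decide) (by decide) (by decide)]
  rcases (show chevE6.commTerms 43 63 = [(68, 1, 1, 1)] ∨ chevE6.commTerms 43 63 = [(68, -1, 1, 1)] by decide +kernel) with e | e <;>
    simp [e, CharTwo.neg_eq, mul_assoc]

theorem q63_44 : X 63 u * (X 44 t * R) = X 44 t * (X 63 u * (X 69 (t * u) * R)) := by
  rw [swap (r := 44) (s := 63) (by decide) (by decide) (by decide) (by decide)]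
  rcases (show chevE6.commTerms 44 63 = [(69, 1, 1, 1)] ∨ chevE6.commTerms 44 63 = [(69, -1, 1, 1)] by decide +kernel) with e | e <;>
    simp [e, CharTwo.neg_eq, mul_assoc]

theorem q63_53 : X 63 u * (X 53 t * R) = X 53 t * (X 63 u * (X 71 (t * u) * R)) := by
  rw [swap (r := 53) (s := 63) (by decide) (by decide) (by decide) (by decide)]
  rcases (show chevE6.commTerms 53 63 = [(71, 1, 1, 1)] ∨ chevE6.commTerms 53 63 = [(71, -1, 1, 1)] by decide +kernel) with e | e <;>
    simp [e, CharTwo.neg_eq, mul_assoc]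

theorem q63_56 : X 63 u * (X 56 t * R) = X 56 t * (X 63 u * R) :=
  flip (commute_X (by decide +kernel) _ _) R

theorem q63_57 : X 63 u * (X 57 t * R) = X 57 t * (X 63 u * R) :=
  flip (commute_X (by decide +kernel) _ _) R

theorem q63_61 : X 63 u * (X 61 t * R) = X 61 t * (X 63 u * R) :=
  flip (commute_X (by decide +kernel) _ _) R

theorem q63_62 : X 63 u * (X 62 t * R) = X 62 t * (X 63 u * R) :=
  flip (commute_X (by decide +kernel) _ _) R

theorem q64_36 : X 64 u * (X 36 t * R) = X 36 t * (X 64 u * (X 65 (t * u) * R)) := by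
  rw [swap (r := 36) (s := 64) (by decide) (by decide) (by decide) (by decide)]
  rcases (show chevE6.commTerms 36 64 = [(65, 1, 1, 1)] ∨ chevE6.commTerms 36 64 = [(65, -1, 1, 1)] by decide +kernel) with e | e <;>
    simp [e, CharTwo.neg_eq, mul_assoc]

theorem q64_37 : X 64 u * (X 37 t * R) = X 37 t * (X 64 u * R) :=
  flip (commute_X (by decide +kernel) _ _) R

theorem q64_38 : X 64 u * (X 38 t * R) = X 38 t * (X 64 u * (X 66 (t * u) * R)) := by
  rw [swap (r := 38) (s := 64) (by decide) (by decide) (by decide) (by decide)]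
  rcases (show chevE6.commTerms 38 64 = [(66, 1, 1, 1)] ∨ chevE6.commTerms 38 64 = [(66, -1, 1, 1)] by decide +kernel) with e | e <;>
    simp [e, CharTwo.neg_eq, mul_assoc]

theorem q64_42 : X 64 u * (X 42 t * R) = X 42 t * (X 64 u * (X 67 (t * u) * R)) := by
  rw [swap (r := 42) (s := 64) (by decide) (by decide) (by decide) (by decide)]
  rcases (show chevE6.commTerms 42 64 = [(67, 1, 1, 1)] ∨ chevE6.commTerms 42 64 = [(67, -1, 1, 1)] by decide +kernel) with e | e <;>
    simp [e, CharTwo.neg_eq, mul_assoc]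

theorem q64_43 : X 64 u * (X 43 t * R) = X 43 t * (X 64 u * R) :=
  flip (commute_X (by decide +kernel) _ _) R

theorem q64_45 : X 64 u * (X 45 t * R) = X 45 t * (X 64 u * (X 70 (t * u) * R)) := by
  rw [swap (r := 45) (s := 64) (by decide) (by decide) (by decide) (by decide)]
  rcases (show chevE6.commTerms 45 64 = [(70, 1, 1, 1)] ∨ chevE6.commTerms 45 64 = [(70, -1, 1, 1)] by decide +kernel) with e | e <;>
    simp [e, CharTwo.neg_eq, mul_assoc]

theorem q64_50 : X 64 u * (X 50 t * R) = X 50 t * (X 64 u * R) :=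
  flip (commute_X (by decide +kernel) _ _) R

theorem q64_52 : X 64 u * (X 52 t * R) = X 52 t * (X 64 u * (X 71 (t * u) * R)) := by
  rw [swap (r := 52) (s := 64) (by decide) (by decide) (by decide) (by decide)]
  rcases (show chevE6.commTerms 52 64 = [(71, 1, 1, 1)] ∨ chevE6.commTerms 52 64 = [(71, -1, 1, 1)] by decide +kernel) with e | e <;>
    simp [e, CharTwo.neg_eq, mul_assoc]

theorem q64_54 : X 64 u * (X 54 t * R) = X 54 t * (X 64 u * R) :=
  flip (commute_X (by decide +kernel) _ _) R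

theorem q64_56 : X 64 u * (X 56 t * R) = X 56 t * (X 64 u * R) :=
  flip (commute_X (by decide +kernel) _ _) R

theorem q64_57 : X 64 u * (X 57 t * R) = X 57 t * (X 64 u * R) :=
  flip (commute_X (by decide +kernel) _ _) R

theorem q64_59 : X 64 u * (X 59 t * R) = X 59 t * (X 64 u * R) :=
  flip (commute_X (by decide +kernel) _ _) R

theorem q64_62 : X 64 u * (X 62 t * R) = X 62 t * (X 64 u * R) :=
  flip (commute_X (by decide +kernel) _ _) R

theorem q65_37 : X 65 u * (X 37 t * R) = X 37 t * (X 65 u * (X 66 (t * u) * R)) := by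
  rw [swap (r := 37) (s := 65) (by decide) (by decide) (by decide) (by decide)]
  rcases (show chevE6.commTerms 37 65 = [(66, 1, 1, 1)] ∨ chevE6.commTerms 37 65 = [(66, -1, 1, 1)] by decide +kernel) with e | e <;>
    simp [e, CharTwo.neg_eq, mul_assoc]

theorem q65_42 : X 65 u * (X 42 t * R) = X 42 t * (X 65 u * (X 68 (t * u) * R)) := by
  rw [swap (r := 42) (s := 65) (by decide) (by decide) (by decide) (by decide)]
  rcases (show chevE6.commTerms 42 65 = [(68, 1, 1, 1)] ∨ chevE6.commTerms 42 65 = [(68, -1, 1, 1)] by decide +kernel) with e | e <;>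
    simp [e, CharTwo.neg_eq, mul_assoc]

theorem q65_44 : X 65 u * (X 44 t * R) = X 44 t * (X 65 u * (X 70 (t * u) * R)) := by
  rw [swap (r := 44) (s := 65) (by decide) (by decide) (by decide) (by decide)]
  rcases (show chevE6.commTerms 44 65 = [(70, 1, 1, 1)] ∨ chevE6.commTerms 44 65 = [(70, -1, 1, 1)] by decide +kernel) with e | e <;>
    simp [e, CharTwo.neg_eq, mul_assoc]

theorem q65_51 : X 65 u * (X 51 t * R) = X 51 t * (X 65 u * (X 71 (t * u) * R)) := by
  rw [swap (r := 51) (s := 65) (by decide) (by decide) (by decide) (by decide)]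
  rcases (show chevE6.commTerms 51 65 = [(71, 1, 1, 1)] ∨ chevE6.commTerms 51 65 = [(71, -1, 1, 1)] by decide +kernel) with e | e <;>
    simp [e, CharTwo.neg_eq, mul_assoc]

theorem q65_56 : X 65 u * (X 56 t * R) = X 56 t * (X 65 u * R) :=
  flip (commute_X (by decide +kernel) _ _) R

theorem q65_58 : X 65 u * (X 58 t * R) = X 58 t * (X 65 u * R) :=
  flip (commute_X (by decide +kernel) _ _) R

theorem q65_61 : X 65 u * (X 61 t * R) = X 61 t * (X 65 u * R) :=
  flip (commute_X (by decide +kernel) _ _) R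

theorem q65_64 : X 65 u * (X 64 t * R) = X 64 t * (X 65 u * R) :=
  flip (commute_X (by decide +kernel) _ _) R

theorem q66_37 : X 66 u * (X 37 t * R) = X 37 t * (X 66 u * R) :=
  flip (commute_X (by decide +kernel) _ _) R

theorem q66_40 : X 66 u * (X 40 t * R) = X 40 t * (X 66 u * R) :=
  flip (commute_X (by decide +kernel) _ _) R

theorem q66_42 : X 66 u * (X 42 t * R) = X 42 t * (X 66 u * (X 69 (t * u) * R)) := by
  rw [swap (r := 42) (s := 66) (by decide) (by decide) (by decide) (by decide)]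
  rcases (show chevE6.commTerms 42 66 = [(69, 1, 1, 1)] ∨ chevE6.commTerms 42 66 = [(69, -1, 1, 1)] by decide +kernel) with e | e <;>
    simp [e, CharTwo.neg_eq, mul_assoc]

theorem q66_43 : X 66 u * (X 43 t * R) = X 43 t * (X 66 u * (X 70 (t * u) * R)) := by
  rw [swap (r := 43) (s := 66) (by decide) (by decide) (by decide) (by decide)]
  rcases (show chevE6.commTerms 43 66 = [(70, 1, 1, 1)] ∨ chevE6.commTerms 43 66 = [(70, -1, 1, 1)] by decide +kernel) with e | e <;>
    simp [e, CharTwo.neg_eq, mul_assoc]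

theorem q66_48 : X 66 u * (X 48 t * R) = X 48 t * (X 66 u * R) :=
  flip (commute_X (by decide +kernel) _ _) R

theorem q66_50 : X 66 u * (X 50 t * R) = X 50 t * (X 66 u * (X 71 (t * u) * R)) := by
  rw [swap (r := 50) (s := 66) (by decide) (by decide) (by decide) (by decide)]
  rcases (show chevE6.commTerms 50 66 = [(71, 1, 1, 1)] ∨ chevE6.commTerms 50 66 = [(71, -1, 1, 1)] by decide +kernel) with e | e <;>
    simp [e, CharTwo.neg_eq, mul_assoc]

theorem q66_57 : X 66 u * (X 57 t * R) = X 57 t * (X 66 u * R) :=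
  flip (commute_X (by decide +kernel) _ _) R

theorem q66_58 : X 66 u * (X 58 t * R) = X 58 t * (X 66 u * R) :=
  flip (commute_X (by decide +kernel) _ _) R

theorem q66_61 : X 66 u * (X 61 t * R) = X 61 t * (X 66 u * R) :=
  flip (commute_X (by decide +kernel) _ _) R

theorem q66_67 : X 66 u * (X 67 t * R) = X 67 t * (X 66 u * R) :=
  flip (commute_X (by decide +kernel) _ _) R

theorem q67_36 : X 67 u * (X 36 t * R) = X 36 t * (X 67 u * (X 68 (t * u) * R)) := by
  rw [swap (r := 36) (s := 67) (by decide) (by decide) (by decide) (by decide)]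
  rcases (show chevE6.commTerms 36 67 = [(68, 1, 1, 1)] ∨ chevE6.commTerms 36 67 = [(68, -1, 1, 1)] by decide +kernel) with e | e <;>
    simp [e, CharTwo.neg_eq, mul_assoc]

theorem q67_38 : X 67 u * (X 38 t * R) = X 38 t * (X 67 u * (X 69 (t * u) * R)) := by
  rw [swap (r := 38) (s := 67) (by decide) (by decide) (by decide) (by decide)]
  rcases (show chevE6.commTerms 38 67 = [(69, 1, 1, 1)] ∨ chevE6.commTerms 38 67 = [(69, -1, 1, 1)] by decide +kernel) with e | e <;>
    simp [e, CharTwo.neg_eq, mul_assoc]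

theorem q67_41 : X 67 u * (X 41 t * R) = X 41 t * (X 67 u * (X 70 (t * u) * R)) := by
  rw [swap (r := 41) (s := 67) (by decide) (by decide) (by decide) (by decide)]
  rcases (show chevE6.commTerms 41 67 = [(70, 1, 1, 1)] ∨ chevE6.commTerms 41 67 = [(70, -1, 1, 1)] by decide +kernel) with e | e <;>
    simp [e, CharTwo.neg_eq, mul_assoc]

theorem q67_49 : X 67 u * (X 49 t * R) = X 49 t * (X 67 u * (X 71 (t * u) * R)) := by
  rw [swap (r := 49) (s := 67) (by decide) (by decide) (by decide) (by decide)]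
  rcases (show chevE6.commTerms 49 67 = [(71, 1, 1, 1)] ∨ chevE6.commTerms 49 67 = [(71, -1, 1, 1)] by decide +kernel) with e | e <;>
    simp [e, CharTwo.neg_eq, mul_assoc]

theorem q67_55 : X 67 u * (X 55 t * R) = X 55 t * (X 67 u * R) :=
  flip (commute_X (by decide +kernel) _ _) R

theorem q67_56 : X 67 u * (X 56 t * R) = X 56 t * (X 67 u * R) :=
  flip (commute_X (by decide +kernel) _ _) R

theorem q67_57 : X 67 u * (X 57 t * R) = X 57 t * (X 67 u * R) :=
  flip (commute_X (by decide +kernel) _ _) R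

theorem q67_58 : X 67 u * (X 58 t * R) = X 58 t * (X 67 u * R) :=
  flip (commute_X (by decide +kernel) _ _) R

theorem q67_61 : X 67 u * (X 61 t * R) = X 61 t * (X 67 u * R) :=
  flip (commute_X (by decide +kernel) _ _) R

theorem q68_37 : X 68 u * (X 37 t * R) = X 37 t * (X 68 u * (X 69 (t * u) * R)) := by
  rw [swap (r := 37) (s := 68) (by decide) (by decide) (by decide) (by decide)]
  rcases (show chevE6.commTerms 37 68 = [(69, 1, 1, 1)] ∨ chevE6.commTerms 37 68 = [(69, -1, 1, 1)] by decide +kernel) with e | e <;>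
    simp [e, CharTwo.neg_eq, mul_assoc]

theorem q68_40 : X 68 u * (X 40 t * R) = X 40 t * (X 68 u * (X 70 (t * u) * R)) := by
  rw [swap (r := 40) (s := 68) (by decide) (by decide) (by decide) (by decide)]
  rcases (show chevE6.commTerms 40 68 = [(70, 1, 1, 1)] ∨ chevE6.commTerms 40 68 = [(70, -1, 1, 1)] by decide +kernel) with e | e <;>
    simp [e, CharTwo.neg_eq, mul_assoc]

theorem q68_42 : X 68 u * (X 42 t * R) = X 42 t * (X 68 u * R) :=
  flip (commute_X (by decide +kernel) _ _) R

theorem q68_43 : X 68 u * (X 43 t * R) = X 43 t * (X 68 u * R) :=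
  flip (commute_X (by decide +kernel) _ _) R

theorem q68_48 : X 68 u * (X 48 t * R) = X 48 t * (X 68 u * (X 71 (t * u) * R)) := by
  rw [swap (r := 48) (s := 68) (by decide) (by decide) (by decide) (by decide)]
  rcases (show chevE6.commTerms 48 68 = [(71, 1, 1, 1)] ∨ chevE6.commTerms 48 68 = [(71, -1, 1, 1)] by decide +kernel) with e | e <;>
    simp [e, CharTwo.neg_eq, mul_assoc]

theorem q68_50 : X 68 u * (X 50 t * R) = X 50 t * (X 68 u * R) :=
  flip (commute_X (by decide +kernel) _ _) R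

theorem q68_56 : X 68 u * (X 56 t * R) = X 56 t * (X 68 u * R) :=
  flip (commute_X (by decide +kernel) _ _) R

theorem q68_59 : X 68 u * (X 59 t * R) = X 59 t * (X 68 u * R) :=
  flip (commute_X (by decide +kernel) _ _) R

theorem q68_62 : X 68 u * (X 62 t * R) = X 62 t * (X 68 u * R) :=
  flip (commute_X (by decide +kernel) _ _) R

theorem q68_64 : X 68 u * (X 64 t * R) = X 64 t * (X 68 u * R) :=
  flip (commute_X (by decide +kernel) _ _) R

theorem q68_66 : X 68 u * (X 66 t * R) = X 66 t * (X 68 u * R) :=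
  flip (commute_X (by decide +kernel) _ _) R

theorem q69_39 : X 69 u * (X 39 t * R) = X 39 t * (X 69 u * (X 70 (t * u) * R)) := by
  rw [swap (r := 39) (s := 69) (by decide) (by decide) (by decide) (by decide)]
  rcases (show chevE6.commTerms 39 69 = [(70, 1, 1, 1)] ∨ chevE6.commTerms 39 69 = [(70, -1, 1, 1)] by decide +kernel) with e | e <;>
    simp [e, CharTwo.neg_eq, mul_assoc]

theorem q69_42 : X 69 u * (X 42 t * R) = X 42 t * (X 69 u * R) :=
  flip (commute_X (by decide +kernel) _ _) R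

theorem q69_47 : X 69 u * (X 47 t * R) = X 47 t * (X 69 u * (X 71 (t * u) * R)) := by
  rw [swap (r := 47) (s := 69) (by decide) (by decide) (by decide) (by decide)]
  rcases (show chevE6.commTerms 47 69 = [(71, 1, 1, 1)] ∨ chevE6.commTerms 47 69 = [(71, -1, 1, 1)] by decide +kernel) with e | e <;>
    simp [e, CharTwo.neg_eq, mul_assoc]

theorem q69_57 : X 69 u * (X 57 t * R) = X 57 t * (X 69 u * R) :=
  flip (commute_X (by decide +kernel) _ _) R

theorem q69_59 : X 69 u * (X 59 t * R) = X 59 t * (X 69 u * R) :=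
  flip (commute_X (by decide +kernel) _ _) R

theorem q69_62 : X 69 u * (X 62 t * R) = X 62 t * (X 69 u * R) :=
  flip (commute_X (by decide +kernel) _ _) R

theorem q69_67 : X 69 u * (X 67 t * R) = X 67 t * (X 69 u * R) :=
  flip (commute_X (by decide +kernel) _ _) R

theorem q69_68 : X 69 u * (X 68 t * R) = X 68 t * (X 69 u * R) :=
  flip (commute_X (by decide +kernel) _ _) R

theorem q70_43 : X 70 u * (X 43 t * R) = X 43 t * (X 70 u * R) :=
  flip (commute_X (by decide +kernel) _ _) R

theorem q70_46 : X 70 u * (X 46 t * R) = X 46 t * (X 70 u * (X 71 (t * u) * R)) := by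
  rw [swap (r := 46) (s := 70) (by decide) (by decide) (by decide) (by decide)]
  rcases (show chevE6.commTerms 46 70 = [(71, 1, 1, 1)] ∨ chevE6.commTerms 46 70 = [(71, -1, 1, 1)] by decide +kernel) with e | e <;>
    simp [e, CharTwo.neg_eq, mul_assoc]

theorem q70_58 : X 70 u * (X 58 t * R) = X 58 t * (X 70 u * R) :=
  flip (commute_X (by decide +kernel) _ _) R

theorem q70_59 : X 70 u * (X 59 t * R) = X 59 t * (X 70 u * R) :=
  flip (commute_X (by decide +kernel) _ _) R

theorem q70_64 : X 70 u * (X 64 t * R) = X 64 t * (X 70 u * R) :=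
  flip (commute_X (by decide +kernel) _ _) R

theorem q70_67 : X 70 u * (X 67 t * R) = X 67 t * (X 70 u * R) :=
  flip (commute_X (by decide +kernel) _ _) R

theorem q70_68 : X 70 u * (X 68 t * R) = X 68 t * (X 70 u * R) :=
  flip (commute_X (by decide +kernel) _ _) R

theorem q71_50 : X 71 u * (X 50 t * R) = X 50 t * (X 71 u * R) :=
  flip (commute_X (by decide +kernel) _ _) R

theorem q71_61 : X 71 u * (X 61 t * R) = X 61 t * (X 71 u * R) :=
  flip (commute_X (by decide +kernel) _ _) R

theorem q71_62 : X 71 u * (X 62 t * R) = X 62 t * (X 71 u * R) :=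
  flip (commute_X (by decide +kernel) _ _) R

theorem q71_64 : X 71 u * (X 64 t * R) = X 64 t * (X 71 u * R) :=
  flip (commute_X (by decide +kernel) _ _) R

theorem q71_67 : X 71 u * (X 67 t * R) = X 67 t * (X 71 u * R) :=
  flip (commute_X (by decide +kernel) _ _) R

theorem q71_68 : X 71 u * (X 68 t * R) = X 68 t * (X 71 u * R) :=
  flip (commute_X (by decide +kernel) _ _) R

theorem o3_2 (t t' u u' : K) (R : GL chevE6.Idx K) :
    D 37 42 u u' * (D 36 56 t t' * R) = D 36 56 t t' * (D 37 42 u u' * (D 38 57 (t * u) (t' * u') * R)) := by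
  simp only [D, mul_assoc, merge, q37_36, q37_56, q38_42, q38_56, q42_36, q42_56, q57_38]
  all_goals ring_nf

theorem o5_2 (t t' u u' : K) (R : GL chevE6.Idx K) :
    D 38 57 u u' * (D 36 56 t t' * R) = D 36 56 t t' * (D 38 57 u u' * R) :=
  flip (commute_DD (by decide +kernel) _ _ _ _) R

theorem o0_2 (t t' u : K) (R : GL chevE6.Idx K) :
    X 39 u * (D 36 56 t t' * R) = D 36 56 t t' * (X 39 u * R) :=
  flip (commute_XD (by decide +kernel) _ _ _) R

theorem o6_2 (t t' u u' : K) (R : GL chevE6.Idx K) :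
    D 40 43 u u' * (D 36 56 t t' * R) = D 36 56 t t' * (D 40 43 u u' * (D 41 58 (t * u) (t' * u') * R)) := by
  simp only [D, mul_assoc, merge, q40_36, q40_56, q41_43, q41_56, q43_36, q43_56, q58_41]
  all_goals ring_nf

theorem o7_2 (t t' u : K) (R : GL chevE6.Idx K) :
    X 44 u * (D 36 56 t t' * R) = D 36 56 t t' * (X 44 u * (D 45 59 (t * u) (t' * u) * (X 60 (t * t' * u) * R))) := by
  simp only [D, mul_assoc, merge, q44_36, q44_56, q45_56, q59_45]
  all_goals ring_nf

theorem o8_2 (t t' u u' : K) (R : GL chevE6.Idx K) :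
    D 41 58 u u' * (D 36 56 t t' * R) = D 36 56 t t' * (D 41 58 u u' * R) :=
  flip (commute_DD (by decide +kernel) _ _ _ _) R

theorem o11_2 (t t' u u' : K) (R : GL chevE6.Idx K) :
    D 45 59 u u' * (D 36 56 t t' * R) = D 36 56 t t' * (D 45 59 u u' * (X 60 (t * u' + t' * u) * R)) := by
  simp only [D, mul_assoc, merge, q45_36, q45_56, q59_36, q59_56, q60_56, q60_59]
  all_goals ring_nf

theorem o14_2 (t t' u : K) (R : GL chevE6.Idx K) :
    X 60 u * (D 36 56 t t' * R) = D 36 56 t t' * (X 60 u * R) :=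
  flip (commute_XD (by decide +kernel) _ _ _) R

theorem o1_2 (t t' u : K) (R : GL chevE6.Idx K) :
    X 46 u * (D 36 56 t t' * R) = D 36 56 t t' * (X 46 u * R) :=
  flip (commute_XD (by decide +kernel) _ _ _) R

theorem o4_2 (t t' u : K) (R : GL chevE6.Idx K) :
    X 47 u * (D 36 56 t t' * R) = D 36 56 t t' * (X 47 u * R) :=
  flip (commute_XD (by decide +kernel) _ _ _) R

theorem o9_2 (t t' u u' : K) (R : GL chevE6.Idx K) :
    D 48 50 u u' * (D 36 56 t t' * R) = D 36 56 t t' * (D 48 50 u u' * (D 49 61 (t * u) (t' * u') * R)) := by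
  simp only [D, mul_assoc, merge, q48_36, q48_56, q49_50, q49_56, q50_36, q50_56, q61_49]
  all_goals ring_nf

theorem o10_2 (t t' u : K) (R : GL chevE6.Idx K) :
    X 51 u * (D 36 56 t t' * R) = D 36 56 t t' * (X 51 u * (D 52 62 (t * u) (t' * u) * (X 63 (t * t' * u) * R))) := by
  simp only [D, mul_assoc, merge, q51_36, q51_56, q52_56, q62_52]
  all_goals ring_nf

theorem o12_2 (t t' u u' : K) (R : GL chevE6.Idx K) :
    D 49 61 u u' * (D 36 56 t t' * R) = D 36 56 t t' * (D 49 61 u u' * R) :=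
  flip (commute_DD (by decide +kernel) _ _ _ _) R

theorem o13_2 (t t' u : K) (R : GL chevE6.Idx K) :
    X 53 u * (D 36 56 t t' * R) = D 36 56 t t' * (X 53 u * (D 54 64 (t * u) (t' * u) * (X 65 (t * t' * u) * R))) := by
  simp only [D, mul_assoc, merge, q53_36, q53_56, q54_56, q64_54]
  all_goals ring_nf

theorem o15_2 (t t' u u' : K) (R : GL chevE6.Idx K) :
    D 52 62 u u' * (D 36 56 t t' * R) = D 36 56 t t' * (D 52 62 u u' * (X 63 (t * u' + t' * u) * R)) := by
  simp only [D, mul_assoc, merge, q52_36, q52_56, q62_36, q62_56, q63_56, q63_62]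
  all_goals ring_nf

theorem o16_2 (t t' u : K) (R : GL chevE6.Idx K) :
    X 63 u * (D 36 56 t t' * R) = D 36 56 t t' * (X 63 u * R) :=
  flip (commute_XD (by decide +kernel) _ _ _) R

theorem o17_2 (t t' u u' : K) (R : GL chevE6.Idx K) :
    D 54 64 u u' * (D 36 56 t t' * R) = D 36 56 t t' * (D 54 64 u u' * (X 65 (t * u' + t' * u) * R)) := by
  simp only [D, mul_assoc, merge, q54_36, q54_56, q64_36, q64_56, q65_56, q65_64]
  all_goals ring_nf

theorem o18_2 (t t' u : K) (R : GL chevE6.Idx K) :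
    X 65 u * (D 36 56 t t' * R) = D 36 56 t t' * (X 65 u * R) :=
  flip (commute_XD (by decide +kernel) _ _ _) R

theorem o19_2 (t t' u u' : K) (R : GL chevE6.Idx K) :
    D 55 67 u u' * (D 36 56 t t' * R) = D 36 56 t t' * (D 55 67 u u' * (D 66 68 (t' * u) (t * u') * R)) := by
  simp only [D, mul_assoc, merge, q55_36, q55_56, q66_67, q67_36, q67_56, q68_56]
  all_goals ring_nf

theorem o20_2 (t t' u u' : K) (R : GL chevE6.Idx K) :
    D 66 68 u u' * (D 36 56 t t' * R) = D 36 56 t t' * (D 66 68 u u' * R) :=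
  flip (commute_DD (by decide +kernel) _ _ _ _) R

theorem o21_2 (t t' u : K) (R : GL chevE6.Idx K) :
    X 69 u * (D 36 56 t t' * R) = D 36 56 t t' * (X 69 u * R) :=
  flip (commute_XD (by decide +kernel) _ _ _) R

theorem o22_2 (t t' u : K) (R : GL chevE6.Idx K) :
    X 70 u * (D 36 56 t t' * R) = D 36 56 t t' * (X 70 u * R) :=
  flip (commute_XD (by decide +kernel) _ _ _) R

theorem o23_2 (t t' u : K) (R : GL chevE6.Idx K) :
    X 71 u * (D 36 56 t t' * R) = D 36 56 t t' * (X 71 u * R) :=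
  flip (commute_XD (by decide +kernel) _ _ _) R

theorem o5_3 (t t' u u' : K) (R : GL chevE6.Idx K) :
    D 38 57 u u' * (D 37 42 t t' * R) = D 37 42 t t' * (D 38 57 u u' * R) :=
  flip (commute_DD (by decide +kernel) _ _ _ _) R

theorem o0_3 (t t' u : K) (R : GL chevE6.Idx K) :
    X 39 u * (D 37 42 t t' * R) = D 37 42 t t' * (X 39 u * (D 40 43 (t * u) (t' * u) * (X 44 (t * t' * u) * R))) := by
  simp only [D, mul_assoc, merge, q39_37, q39_42, q40_42, q43_40]
  all_goals ring_nf

theorem o6_3 (t t' u u' : K) (R : GL chevE6.Idx K) :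
    D 40 43 u u' * (D 37 42 t t' * R) = D 37 42 t t' * (D 40 43 u u' * (X 44 (t * u' + t' * u) * R)) := by
  simp only [D, mul_assoc, merge, q40_37, q40_42, q43_37, q43_42, q44_42, q44_43]
  all_goals ring_nf

theorem o7_3 (t t' u : K) (R : GL chevE6.Idx K) :
    X 44 u * (D 37 42 t t' * R) = D 37 42 t t' * (X 44 u * R) :=
  flip (commute_XD (by decide +kernel) _ _ _) R

theorem o8_3 (t t' u u' : K) (R : GL chevE6.Idx K) :
    D 41 58 u u' * (D 37 42 t t' * R) = D 37 42 t t' * (D 41 58 u u' * (D 45 59 (t' * u) (t * u') * R)) := by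
  simp only [D, mul_assoc, merge, q41_37, q41_42, q45_58, q58_37, q58_42, q59_42]
  all_goals ring_nf

theorem o11_3 (t t' u u' : K) (R : GL chevE6.Idx K) :
    D 45 59 u u' * (D 37 42 t t' * R) = D 37 42 t t' * (D 45 59 u u' * R) :=
  flip (commute_DD (by decide +kernel) _ _ _ _) R

theorem o14_3 (t t' u : K) (R : GL chevE6.Idx K) :
    X 60 u * (D 37 42 t t' * R) = D 37 42 t t' * (X 60 u * R) :=
  flip (commute_XD (by decide +kernel) _ _ _) R

theorem o1_3 (t t' u : K) (R : GL chevE6.Idx K) :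
    X 46 u * (D 37 42 t t' * R) = D 37 42 t t' * (X 46 u * R) :=
  flip (commute_XD (by decide +kernel) _ _ _) R

theorem o4_3 (t t' u : K) (R : GL chevE6.Idx K) :
    X 47 u * (D 37 42 t t' * R) = D 37 42 t t' * (X 47 u * (D 48 50 (t * u) (t' * u) * (X 51 (t * t' * u) * R))) := by
  simp only [D, mul_assoc, merge, q47_37, q47_42, q48_42, q50_48]
  all_goals ring_nf

theorem o9_3 (t t' u u' : K) (R : GL chevE6.Idx K) :
    D 48 50 u u' * (D 37 42 t t' * R) = D 37 42 t t' * (D 48 50 u u' * (X 51 (t * u' + t' * u) * R)) := by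
  simp only [D, mul_assoc, merge, q48_37, q48_42, q50_37, q50_42, q51_42, q51_50]
  all_goals ring_nf

theorem o10_3 (t t' u : K) (R : GL chevE6.Idx K) :
    X 51 u * (D 37 42 t t' * R) = D 37 42 t t' * (X 51 u * R) :=
  flip (commute_XD (by decide +kernel) _ _ _) R

theorem o12_3 (t t' u u' : K) (R : GL chevE6.Idx K) :
    D 49 61 u u' * (D 37 42 t t' * R) = D 37 42 t t' * (D 49 61 u u' * (D 52 62 (t' * u) (t * u') * R)) := by
  simp only [D, mul_assoc, merge, q49_37, q49_42, q52_61, q61_37, q61_42, q62_42]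
  all_goals ring_nf

theorem o13_3 (t t' u : K) (R : GL chevE6.Idx K) :
    X 53 u * (D 37 42 t t' * R) = D 37 42 t t' * (X 53 u * R) :=
  flip (commute_XD (by decide +kernel) _ _ _) R

theorem o15_3 (t t' u u' : K) (R : GL chevE6.Idx K) :
    D 52 62 u u' * (D 37 42 t t' * R) = D 37 42 t t' * (D 52 62 u u' * R) :=
  flip (commute_DD (by decide +kernel) _ _ _ _) R

theorem o16_3 (t t' u : K) (R : GL chevE6.Idx K) :
    X 63 u * (D 37 42 t t' * R) = D 37 42 t t' * (X 63 u * R) :=
  flip (commute_XD (by decide +kernel) _ _ _) R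

theorem o17_3 (t t' u u' : K) (R : GL chevE6.Idx K) :
    D 54 64 u u' * (D 37 42 t t' * R) = D 37 42 t t' * (D 54 64 u u' * (D 55 67 (t * u) (t' * u') * R)) := by
  simp only [D, mul_assoc, merge, q54_37, q54_42, q55_42, q55_64, q64_37, q64_42, q67_55]
  all_goals ring_nf

theorem o18_3 (t t' u : K) (R : GL chevE6.Idx K) :
    X 65 u * (D 37 42 t t' * R) = D 37 42 t t' * (X 65 u * (D 66 68 (t * u) (t' * u) * (X 69 (t * t' * u) * R))) := by
  simp only [D, mul_assoc, merge, q65_37, q65_42, q66_42, q68_66]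
  all_goals ring_nf

theorem o19_3 (t t' u u' : K) (R : GL chevE6.Idx K) :
    D 55 67 u u' * (D 37 42 t t' * R) = D 37 42 t t' * (D 55 67 u u' * R) :=
  flip (commute_DD (by decide +kernel) _ _ _ _) R

theorem o20_3 (t t' u u' : K) (R : GL chevE6.Idx K) :
    D 66 68 u u' * (D 37 42 t t' * R) = D 37 42 t t' * (D 66 68 u u' * (X 69 (t * u' + t' * u) * R)) := by
  simp only [D, mul_assoc, merge, q66_37, q66_42, q68_37, q68_42, q69_42, q69_68]
  all_goals ring_nf

theorem o21_3 (t t' u : K) (R : GL chevE6.Idx K) :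
    X 69 u * (D 37 42 t t' * R) = D 37 42 t t' * (X 69 u * R) :=
  flip (commute_XD (by decide +kernel) _ _ _) R

theorem o22_3 (t t' u : K) (R : GL chevE6.Idx K) :
    X 70 u * (D 37 42 t t' * R) = D 37 42 t t' * (X 70 u * R) :=
  flip (commute_XD (by decide +kernel) _ _ _) R

theorem o23_3 (t t' u : K) (R : GL chevE6.Idx K) :
    X 71 u * (D 37 42 t t' * R) = D 37 42 t t' * (X 71 u * R) :=
  flip (commute_XD (by decide +kernel) _ _ _) R

theorem o0_5 (t t' u : K) (R : GL chevE6.Idx K) :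
    X 39 u * (D 38 57 t t' * R) = D 38 57 t t' * (X 39 u * (D 41 58 (t * u) (t' * u) * (X 60 (t * t' * u) * R))) := by
  simp only [D, mul_assoc, merge, q39_38, q39_57, q41_57, q58_41]
  all_goals ring_nf

theorem o6_5 (t t' u u' : K) (R : GL chevE6.Idx K) :
    D 40 43 u u' * (D 38 57 t t' * R) = D 38 57 t t' * (D 40 43 u u' * (D 45 59 (t * u') (t' * u) * R)) := by
  simp only [D, mul_assoc, merge, q40_38, q40_57, q43_38, q43_57, q45_57, q59_43, q59_45]
  all_goals ring_nf

theorem o7_5 (t t' u : K) (R : GL chevE6.Idx K) :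
    X 44 u * (D 38 57 t t' * R) = D 38 57 t t' * (X 44 u * R) :=
  flip (commute_XD (by decide +kernel) _ _ _) R

theorem o8_5 (t t' u u' : K) (R : GL chevE6.Idx K) :
    D 41 58 u u' * (D 38 57 t t' * R) = D 38 57 t t' * (D 41 58 u u' * (X 60 (t * u' + t' * u) * R)) := by
  simp only [D, mul_assoc, merge, q41_38, q41_57, q58_38, q58_57, q60_57, q60_58]
  all_goals ring_nf

theorem o11_5 (t t' u u' : K) (R : GL chevE6.Idx K) :
    D 45 59 u u' * (D 38 57 t t' * R) = D 38 57 t t' * (D 45 59 u u' * R) :=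
  flip (commute_DD (by decide +kernel) _ _ _ _) R

theorem o14_5 (t t' u : K) (R : GL chevE6.Idx K) :
    X 60 u * (D 38 57 t t' * R) = D 38 57 t t' * (X 60 u * R) :=
  flip (commute_XD (by decide +kernel) _ _ _) R

theorem o1_5 (t t' u : K) (R : GL chevE6.Idx K) :
    X 46 u * (D 38 57 t t' * R) = D 38 57 t t' * (X 46 u * R) :=
  flip (commute_XD (by decide +kernel) _ _ _) R

theorem o4_5 (t t' u : K) (R : GL chevE6.Idx K) :
    X 47 u * (D 38 57 t t' * R) = D 38 57 t t' * (X 47 u * (D 49 61 (t * u) (t' * u) * (X 63 (t * t' * u) * R))) := by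
  simp only [D, mul_assoc, merge, q47_38, q47_57, q49_57, q61_49]
  all_goals ring_nf

theorem o9_5 (t t' u u' : K) (R : GL chevE6.Idx K) :
    D 48 50 u u' * (D 38 57 t t' * R) = D 38 57 t t' * (D 48 50 u u' * (D 52 62 (t * u') (t' * u) * R)) := by
  simp only [D, mul_assoc, merge, q48_38, q48_57, q50_38, q50_57, q52_57, q62_50, q62_52]
  all_goals ring_nf

theorem o10_5 (t t' u : K) (R : GL chevE6.Idx K) :
    X 51 u * (D 38 57 t t' * R) = D 38 57 t t' * (X 51 u * R) :=
  flip (commute_XD (by decide +kernel) _ _ _) R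

theorem o12_5 (t t' u u' : K) (R : GL chevE6.Idx K) :
    D 49 61 u u' * (D 38 57 t t' * R) = D 38 57 t t' * (D 49 61 u u' * (X 63 (t * u' + t' * u) * R)) := by
  simp only [D, mul_assoc, merge, q49_38, q49_57, q61_38, q61_57, q63_57, q63_61]
  all_goals ring_nf

theorem o13_5 (t t' u : K) (R : GL chevE6.Idx K) :
    X 53 u * (D 38 57 t t' * R) = D 38 57 t t' * (X 53 u * (D 55 67 (t * u) (t' * u) * (X 69 (t * t' * u) * R))) := by
  simp only [D, mul_assoc, merge, q53_38, q53_57, q55_57, q67_55]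
  all_goals ring_nf

theorem o15_5 (t t' u u' : K) (R : GL chevE6.Idx K) :
    D 52 62 u u' * (D 38 57 t t' * R) = D 38 57 t t' * (D 52 62 u u' * R) :=
  flip (commute_DD (by decide +kernel) _ _ _ _) R

theorem o16_5 (t t' u : K) (R : GL chevE6.Idx K) :
    X 63 u * (D 38 57 t t' * R) = D 38 57 t t' * (X 63 u * R) :=
  flip (commute_XD (by decide +kernel) _ _ _) R

theorem o17_5 (t t' u u' : K) (R : GL chevE6.Idx K) :
    D 54 64 u u' * (D 38 57 t t' * R) = D 38 57 t t' * (D 54 64 u u' * (D 66 68 (t * u') (t' * u) * R)) := by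
  simp only [D, mul_assoc, merge, q54_38, q54_57, q64_38, q64_57, q66_57, q68_64, q68_66]
  all_goals ring_nf

theorem o18_5 (t t' u : K) (R : GL chevE6.Idx K) :
    X 65 u * (D 38 57 t t' * R) = D 38 57 t t' * (X 65 u * R) :=
  flip (commute_XD (by decide +kernel) _ _ _) R

theorem o19_5 (t t' u u' : K) (R : GL chevE6.Idx K) :
    D 55 67 u u' * (D 38 57 t t' * R) = D 38 57 t t' * (D 55 67 u u' * (X 69 (t * u' + t' * u) * R)) := by
  simp only [D, mul_assoc, merge, q55_38, q55_57, q67_38, q67_57, q69_57, q69_67]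
  all_goals ring_nf

theorem o20_5 (t t' u u' : K) (R : GL chevE6.Idx K) :
    D 66 68 u u' * (D 38 57 t t' * R) = D 38 57 t t' * (D 66 68 u u' * R) :=
  flip (commute_DD (by decide +kernel) _ _ _ _) R

theorem o21_5 (t t' u : K) (R : GL chevE6.Idx K) :
    X 69 u * (D 38 57 t t' * R) = D 38 57 t t' * (X 69 u * R) :=
  flip (commute_XD (by decide +kernel) _ _ _) R

theorem o22_5 (t t' u : K) (R : GL chevE6.Idx K) :
    X 70 u * (D 38 57 t t' * R) = D 38 57 t t' * (X 70 u * R) :=
  flip (commute_XD (by decide +kernel) _ _ _) R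

theorem o23_5 (t t' u : K) (R : GL chevE6.Idx K) :
    X 71 u * (D 38 57 t t' * R) = D 38 57 t t' * (X 71 u * R) :=
  flip (commute_XD (by decide +kernel) _ _ _) R

theorem o6_0 (t u u' : K) (R : GL chevE6.Idx K) :
    D 40 43 u u' * (X 39 t * R) = X 39 t * (D 40 43 u u' * R) :=
  flip (commute_XD (by decide +kernel) _ _ _).symm R

theorem o7_0 (t u : K) (R : GL chevE6.Idx K) :
    X 44 u * (X 39 t * R) = X 39 t * (X 44 u * R) :=
  flip (commute_X (by decide +kernel) _ _) R

theorem o8_0 (t u u' : K) (R : GL chevE6.Idx K) :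
    D 41 58 u u' * (X 39 t * R) = X 39 t * (D 41 58 u u' * R) :=
  flip (commute_XD (by decide +kernel) _ _ _).symm R

theorem o11_0 (t u u' : K) (R : GL chevE6.Idx K) :
    D 45 59 u u' * (X 39 t * R) = X 39 t * (D 45 59 u u' * R) :=
  flip (commute_XD (by decide +kernel) _ _ _).symm R

theorem o14_0 (t u : K) (R : GL chevE6.Idx K) :
    X 60 u * (X 39 t * R) = X 39 t * (X 60 u * R) :=
  flip (commute_X (by decide +kernel) _ _) R

theorem o1_0 (t u : K) (R : GL chevE6.Idx K) :
    X 46 u * (X 39 t * R) = X 39 t * (X 46 u * (X 47 (t * u) * R)) := by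
  simp only [D, mul_assoc, merge, q46_39]
  all_goals ring_nf

theorem o4_0 (t u : K) (R : GL chevE6.Idx K) :
    X 47 u * (X 39 t * R) = X 39 t * (X 47 u * R) :=
  flip (commute_X (by decide +kernel) _ _) R

theorem o9_0 (t u u' : K) (R : GL chevE6.Idx K) :
    D 48 50 u u' * (X 39 t * R) = X 39 t * (D 48 50 u u' * R) :=
  flip (commute_XD (by decide +kernel) _ _ _).symm R

theorem o10_0 (t u : K) (R : GL chevE6.Idx K) :
    X 51 u * (X 39 t * R) = X 39 t * (X 51 u * (X 53 (t * u) * R)) := by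
  simp only [D, mul_assoc, merge, q51_39]
  all_goals ring_nf

theorem o12_0 (t u u' : K) (R : GL chevE6.Idx K) :
    D 49 61 u u' * (X 39 t * R) = X 39 t * (D 49 61 u u' * R) :=
  flip (commute_XD (by decide +kernel) _ _ _).symm R

theorem o13_0 (t u : K) (R : GL chevE6.Idx K) :
    X 53 u * (X 39 t * R) = X 39 t * (X 53 u * R) :=
  flip (commute_X (by decide +kernel) _ _) R

theorem o15_0 (t u u' : K) (R : GL chevE6.Idx K) :
    D 52 62 u u' * (X 39 t * R) = X 39 t * (D 52 62 u u' * (D 54 64 (t * u) (t * u') * (X 71 (t * u * u') * R))) := by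
  simp only [D, mul_assoc, merge, q52_39, q54_62, q62_39, q71_64]
  all_goals ring_nf

theorem o16_0 (t u : K) (R : GL chevE6.Idx K) :
    X 63 u * (X 39 t * R) = X 39 t * (X 63 u * (X 65 (t * u) * R)) := by
  simp only [D, mul_assoc, merge, q63_39]
  all_goals ring_nf

theorem o17_0 (t u u' : K) (R : GL chevE6.Idx K) :
    D 54 64 u u' * (X 39 t * R) = X 39 t * (D 54 64 u u' * R) :=
  flip (commute_XD (by decide +kernel) _ _ _).symm R

theorem o18_0 (t u : K) (R : GL chevE6.Idx K) :
    X 65 u * (X 39 t * R) = X 39 t * (X 65 u * R) :=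
  flip (commute_X (by decide +kernel) _ _) R

theorem o19_0 (t u u' : K) (R : GL chevE6.Idx K) :
    D 55 67 u u' * (X 39 t * R) = X 39 t * (D 55 67 u u' * R) :=
  flip (commute_XD (by decide +kernel) _ _ _).symm R

theorem o20_0 (t u u' : K) (R : GL chevE6.Idx K) :
    D 66 68 u u' * (X 39 t * R) = X 39 t * (D 66 68 u u' * R) :=
  flip (commute_XD (by decide +kernel) _ _ _).symm R

theorem o21_0 (t u : K) (R : GL chevE6.Idx K) :
    X 69 u * (X 39 t * R) = X 39 t * (X 69 u * (X 70 (t * u) * R)) := by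
  simp only [D, mul_assoc, merge, q69_39]
  all_goals ring_nf

theorem o22_0 (t u : K) (R : GL chevE6.Idx K) :
    X 70 u * (X 39 t * R) = X 39 t * (X 70 u * R) :=
  flip (commute_X (by decide +kernel) _ _) R

theorem o23_0 (t u : K) (R : GL chevE6.Idx K) :
    X 71 u * (X 39 t * R) = X 39 t * (X 71 u * R) :=
  flip (commute_X (by decide +kernel) _ _) R

theorem o7_6 (t t' u : K) (R : GL chevE6.Idx K) :
    X 44 u * (D 40 43 t t' * R) = D 40 43 t t' * (X 44 u * R) :=
  flip (commute_XD (by decide +kernel) _ _ _) R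

theorem o8_6 (t t' u u' : K) (R : GL chevE6.Idx K) :
    D 41 58 u u' * (D 40 43 t t' * R) = D 40 43 t t' * (D 41 58 u u' * R) :=
  flip (commute_DD (by decide +kernel) _ _ _ _) R

theorem o11_6 (t t' u u' : K) (R : GL chevE6.Idx K) :
    D 45 59 u u' * (D 40 43 t t' * R) = D 40 43 t t' * (D 45 59 u u' * R) :=
  flip (commute_DD (by decide +kernel) _ _ _ _) R

theorem o14_6 (t t' u : K) (R : GL chevE6.Idx K) :
    X 60 u * (D 40 43 t t' * R) = D 40 43 t t' * (X 60 u * R) :=
  flip (commute_XD (by decide +kernel) _ _ _) R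

theorem o1_6 (t t' u : K) (R : GL chevE6.Idx K) :
    X 46 u * (D 40 43 t t' * R) = D 40 43 t t' * (X 46 u * (D 48 50 (t * u) (t' * u) * (X 53 (t * t' * u) * R))) := by
  simp only [D, mul_assoc, merge, q46_40, q46_43, q48_43, q50_48]
  all_goals ring_nf

theorem o4_6 (t t' u : K) (R : GL chevE6.Idx K) :
    X 47 u * (D 40 43 t t' * R) = D 40 43 t t' * (X 47 u * R) :=
  flip (commute_XD (by decide +kernel) _ _ _) R

theorem o9_6 (t t' u u' : K) (R : GL chevE6.Idx K) :
    D 48 50 u u' * (D 40 43 t t' * R) = D 40 43 t t' * (D 48 50 u u' * (X 53 (t * u' + t' * u) * R)) := by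
  simp only [D, mul_assoc, merge, q48_40, q48_43, q50_40, q50_43, q53_43, q53_50]
  all_goals ring_nf

theorem o10_6 (t t' u : K) (R : GL chevE6.Idx K) :
    X 51 u * (D 40 43 t t' * R) = D 40 43 t t' * (X 51 u * R) :=
  flip (commute_XD (by decide +kernel) _ _ _) R

theorem o12_6 (t t' u u' : K) (R : GL chevE6.Idx K) :
    D 49 61 u u' * (D 40 43 t t' * R) = D 40 43 t t' * (D 49 61 u u' * (D 54 64 (t' * u) (t * u') * R)) := by
  simp only [D, mul_assoc, merge, q49_40, q49_43, q54_61, q61_40, q61_43, q64_43]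
  all_goals ring_nf

theorem o13_6 (t t' u : K) (R : GL chevE6.Idx K) :
    X 53 u * (D 40 43 t t' * R) = D 40 43 t t' * (X 53 u * R) :=
  flip (commute_XD (by decide +kernel) _ _ _) R

theorem o15_6 (t t' u u' : K) (R : GL chevE6.Idx K) :
    D 52 62 u u' * (D 40 43 t t' * R) = D 40 43 t t' * (D 52 62 u u' * (D 55 67 (t * u) (t' * u') * R)) := by
  simp only [D, mul_assoc, merge, q52_40, q52_43, q55_43, q55_62, q62_40, q62_43, q67_55]
  all_goals ring_nf

theorem o16_6 (t t' u : K) (R : GL chevE6.Idx K) :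
    X 63 u * (D 40 43 t t' * R) = D 40 43 t t' * (X 63 u * (D 66 68 (t * u) (t' * u) * (X 70 (t * t' * u) * R))) := by
  simp only [D, mul_assoc, merge, q63_40, q63_43, q66_43, q68_66]
  all_goals ring_nf

theorem o17_6 (t t' u u' : K) (R : GL chevE6.Idx K) :
    D 54 64 u u' * (D 40 43 t t' * R) = D 40 43 t t' * (D 54 64 u u' * R) :=
  flip (commute_DD (by decide +kernel) _ _ _ _) R

theorem o18_6 (t t' u : K) (R : GL chevE6.Idx K) :
    X 65 u * (D 40 43 t t' * R) = D 40 43 t t' * (X 65 u * R) :=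
  flip (commute_XD (by decide +kernel) _ _ _) R

theorem o19_6 (t t' u u' : K) (R : GL chevE6.Idx K) :
    D 55 67 u u' * (D 40 43 t t' * R) = D 40 43 t t' * (D 55 67 u u' * R) :=
  flip (commute_DD (by decide +kernel) _ _ _ _) R

theorem o20_6 (t t' u u' : K) (R : GL chevE6.Idx K) :
    D 66 68 u u' * (D 40 43 t t' * R) = D 40 43 t t' * (D 66 68 u u' * (X 70 (t * u' + t' * u) * R)) := by
  simp only [D, mul_assoc, merge, q66_40, q66_43, q68_40, q68_43, q70_43, q70_68]
  all_goals ring_nf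

theorem o21_6 (t t' u : K) (R : GL chevE6.Idx K) :
    X 69 u * (D 40 43 t t' * R) = D 40 43 t t' * (X 69 u * R) :=
  flip (commute_XD (by decide +kernel) _ _ _) R

theorem o22_6 (t t' u : K) (R : GL chevE6.Idx K) :
    X 70 u * (D 40 43 t t' * R) = D 40 43 t t' * (X 70 u * R) :=
  flip (commute_XD (by decide +kernel) _ _ _) R

theorem o23_6 (t t' u : K) (R : GL chevE6.Idx K) :
    X 71 u * (D 40 43 t t' * R) = D 40 43 t t' * (X 71 u * R) :=
  flip (commute_XD (by decide +kernel) _ _ _) R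

theorem o8_7 (t u u' : K) (R : GL chevE6.Idx K) :
    D 41 58 u u' * (X 44 t * R) = X 44 t * (D 41 58 u u' * R) :=
  flip (commute_XD (by decide +kernel) _ _ _).symm R

theorem o11_7 (t u u' : K) (R : GL chevE6.Idx K) :
    D 45 59 u u' * (X 44 t * R) = X 44 t * (D 45 59 u u' * R) :=
  flip (commute_XD (by decide +kernel) _ _ _).symm R

theorem o14_7 (t u : K) (R : GL chevE6.Idx K) :
    X 60 u * (X 44 t * R) = X 44 t * (X 60 u * R) :=
  flip (commute_X (by decide +kernel) _ _) R

theorem o1_7 (t u : K) (R : GL chevE6.Idx K) :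
    X 46 u * (X 44 t * R) = X 44 t * (X 46 u * (X 51 (t * u) * R)) := by
  simp only [D, mul_assoc, merge, q46_44]
  all_goals ring_nf

theorem o4_7 (t u : K) (R : GL chevE6.Idx K) :
    X 47 u * (X 44 t * R) = X 44 t * (X 47 u * (X 53 (t * u) * R)) := by
  simp only [D, mul_assoc, merge, q47_44]
  all_goals ring_nf

theorem o9_7 (t u u' : K) (R : GL chevE6.Idx K) :
    D 48 50 u u' * (X 44 t * R) = X 44 t * (D 48 50 u u' * R) :=
  flip (commute_XD (by decide +kernel) _ _ _).symm R

theorem o10_7 (t u : K) (R : GL chevE6.Idx K) :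
    X 51 u * (X 44 t * R) = X 44 t * (X 51 u * R) :=
  flip (commute_X (by decide +kernel) _ _) R

theorem o12_7 (t u u' : K) (R : GL chevE6.Idx K) :
    D 49 61 u u' * (X 44 t * R) = X 44 t * (D 49 61 u u' * (D 55 67 (t * u) (t * u') * (X 71 (t * u * u') * R))) := by
  simp only [D, mul_assoc, merge, q49_44, q55_61, q61_44, q71_67]
  all_goals ring_nf

theorem o13_7 (t u : K) (R : GL chevE6.Idx K) :
    X 53 u * (X 44 t * R) = X 44 t * (X 53 u * R) :=
  flip (commute_X (by decide +kernel) _ _) R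

theorem o15_7 (t u u' : K) (R : GL chevE6.Idx K) :
    D 52 62 u u' * (X 44 t * R) = X 44 t * (D 52 62 u u' * R) :=
  flip (commute_XD (by decide +kernel) _ _ _).symm R

theorem o16_7 (t u : K) (R : GL chevE6.Idx K) :
    X 63 u * (X 44 t * R) = X 44 t * (X 63 u * (X 69 (t * u) * R)) := by
  simp only [D, mul_assoc, merge, q63_44]
  all_goals ring_nf

theorem o17_7 (t u u' : K) (R : GL chevE6.Idx K) :
    D 54 64 u u' * (X 44 t * R) = X 44 t * (D 54 64 u u' * R) :=
  flip (commute_XD (by decide +kernel) _ _ _).symm R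

theorem o18_7 (t u : K) (R : GL chevE6.Idx K) :
    X 65 u * (X 44 t * R) = X 44 t * (X 65 u * (X 70 (t * u) * R)) := by
  simp only [D, mul_assoc, merge, q65_44]
  all_goals ring_nf

theorem o19_7 (t u u' : K) (R : GL chevE6.Idx K) :
    D 55 67 u u' * (X 44 t * R) = X 44 t * (D 55 67 u u' * R) :=
  flip (commute_XD (by decide +kernel) _ _ _).symm R

theorem o20_7 (t u u' : K) (R : GL chevE6.Idx K) :
    D 66 68 u u' * (X 44 t * R) = X 44 t * (D 66 68 u u' * R) :=
  flip (commute_XD (by decide +kernel) _ _ _).symm R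

theorem o21_7 (t u : K) (R : GL chevE6.Idx K) :
    X 69 u * (X 44 t * R) = X 44 t * (X 69 u * R) :=
  flip (commute_X (by decide +kernel) _ _) R

theorem o22_7 (t u : K) (R : GL chevE6.Idx K) :
    X 70 u * (X 44 t * R) = X 44 t * (X 70 u * R) :=
  flip (commute_X (by decide +kernel) _ _) R

theorem o23_7 (t u : K) (R : GL chevE6.Idx K) :
    X 71 u * (X 44 t * R) = X 44 t * (X 71 u * R) :=
  flip (commute_X (by decide +kernel) _ _) R

theorem o11_8 (t t' u u' : K) (R : GL chevE6.Idx K) :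
    D 45 59 u u' * (D 41 58 t t' * R) = D 41 58 t t' * (D 45 59 u u' * R) :=
  flip (commute_DD (by decide +kernel) _ _ _ _) R

theorem o14_8 (t t' u : K) (R : GL chevE6.Idx K) :
    X 60 u * (D 41 58 t t' * R) = D 41 58 t t' * (X 60 u * R) :=
  flip (commute_XD (by decide +kernel) _ _ _) R

theorem o1_8 (t t' u : K) (R : GL chevE6.Idx K) :
    X 46 u * (D 41 58 t t' * R) = D 41 58 t t' * (X 46 u * (D 49 61 (t * u) (t' * u) * (X 65 (t * t' * u) * R))) := by
  simp only [D, mul_assoc, merge, q46_41, q46_58, q49_58, q61_49]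
  all_goals ring_nf

theorem o4_8 (t t' u : K) (R : GL chevE6.Idx K) :
    X 47 u * (D 41 58 t t' * R) = D 41 58 t t' * (X 47 u * R) :=
  flip (commute_XD (by decide +kernel) _ _ _) R

theorem o9_8 (t t' u u' : K) (R : GL chevE6.Idx K) :
    D 48 50 u u' * (D 41 58 t t' * R) = D 41 58 t t' * (D 48 50 u u' * (D 54 64 (t * u') (t' * u) * R)) := by
  simp only [D, mul_assoc, merge, q48_41, q48_58, q50_41, q50_58, q54_58, q64_50, q64_54]
  all_goals ring_nf

theorem o10_8 (t t' u : K) (R : GL chevE6.Idx K) :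
    X 51 u * (D 41 58 t t' * R) = D 41 58 t t' * (X 51 u * (D 55 67 (t * u) (t' * u) * (X 70 (t * t' * u) * R))) := by
  simp only [D, mul_assoc, merge, q51_41, q51_58, q55_58, q67_55]
  all_goals ring_nf

theorem o12_8 (t t' u u' : K) (R : GL chevE6.Idx K) :
    D 49 61 u u' * (D 41 58 t t' * R) = D 41 58 t t' * (D 49 61 u u' * (X 65 (t * u' + t' * u) * R)) := by
  simp only [D, mul_assoc, merge, q49_41, q49_58, q61_41, q61_58, q65_58, q65_61]
  all_goals ring_nf

theorem o13_8 (t t' u : K) (R : GL chevE6.Idx K) :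
    X 53 u * (D 41 58 t t' * R) = D 41 58 t t' * (X 53 u * R) :=
  flip (commute_XD (by decide +kernel) _ _ _) R

theorem o15_8 (t t' u u' : K) (R : GL chevE6.Idx K) :
    D 52 62 u u' * (D 41 58 t t' * R) = D 41 58 t t' * (D 52 62 u u' * (D 66 68 (t * u') (t' * u) * R)) := by
  simp only [D, mul_assoc, merge, q52_41, q52_58, q62_41, q62_58, q66_58, q68_62, q68_66]
  all_goals ring_nf

theorem o16_8 (t t' u : K) (R : GL chevE6.Idx K) :
    X 63 u * (D 41 58 t t' * R) = D 41 58 t t' * (X 63 u * R) :=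
  flip (commute_XD (by decide +kernel) _ _ _) R

theorem o17_8 (t t' u u' : K) (R : GL chevE6.Idx K) :
    D 54 64 u u' * (D 41 58 t t' * R) = D 41 58 t t' * (D 54 64 u u' * R) :=
  flip (commute_DD (by decide +kernel) _ _ _ _) R

theorem o18_8 (t t' u : K) (R : GL chevE6.Idx K) :
    X 65 u * (D 41 58 t t' * R) = D 41 58 t t' * (X 65 u * R) :=
  flip (commute_XD (by decide +kernel) _ _ _) R

theorem o19_8 (t t' u u' : K) (R : GL chevE6.Idx K) :
    D 55 67 u u' * (D 41 58 t t' * R) = D 41 58 t t' * (D 55 67 u u' * (X 70 (t * u' + t' * u) * R)) := by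
  simp only [D, mul_assoc, merge, q55_41, q55_58, q67_41, q67_58, q70_58, q70_67]
  all_goals ring_nf

theorem o20_8 (t t' u u' : K) (R : GL chevE6.Idx K) :
    D 66 68 u u' * (D 41 58 t t' * R) = D 41 58 t t' * (D 66 68 u u' * R) :=
  flip (commute_DD (by decide +kernel) _ _ _ _) R

theorem o21_8 (t t' u : K) (R : GL chevE6.Idx K) :
    X 69 u * (D 41 58 t t' * R) = D 41 58 t t' * (X 69 u * R) :=
  flip (commute_XD (by decide +kernel) _ _ _) R

theorem o22_8 (t t' u : K) (R : GL chevE6.Idx K) :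
    X 70 u * (D 41 58 t t' * R) = D 41 58 t t' * (X 70 u * R) :=
  flip (commute_XD (by decide +kernel) _ _ _) R

theorem o23_8 (t t' u : K) (R : GL chevE6.Idx K) :
    X 71 u * (D 41 58 t t' * R) = D 41 58 t t' * (X 71 u * R) :=
  flip (commute_XD (by decide +kernel) _ _ _) R

theorem o14_11 (t t' u : K) (R : GL chevE6.Idx K) :
    X 60 u * (D 45 59 t t' * R) = D 45 59 t t' * (X 60 u * R) :=
  flip (commute_XD (by decide +kernel) _ _ _) R

theorem o1_11 (t t' u : K) (R : GL chevE6.Idx K) :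
    X 46 u * (D 45 59 t t' * R) = D 45 59 t t' * (X 46 u * (D 52 62 (t * u) (t' * u) * (X 69 (t * t' * u) * R))) := by
  simp only [D, mul_assoc, merge, q46_45, q46_59, q52_59, q62_52]
  all_goals ring_nf

theorem o4_11 (t t' u : K) (R : GL chevE6.Idx K) :
    X 47 u * (D 45 59 t t' * R) = D 45 59 t t' * (X 47 u * (D 54 64 (t * u) (t' * u) * (X 70 (t * t' * u) * R))) := by
  simp only [D, mul_assoc, merge, q47_45, q47_59, q54_59, q64_54]
  all_goals ring_nf

theorem o9_11 (t t' u u' : K) (R : GL chevE6.Idx K) :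
    D 48 50 u u' * (D 45 59 t t' * R) = D 45 59 t t' * (D 48 50 u u' * (D 55 67 (t * u) (t' * u') * R)) := by
  simp only [D, mul_assoc, merge, q48_45, q48_59, q50_45, q50_59, q55_50, q55_59, q67_55]
  all_goals ring_nf

theorem o10_11 (t t' u : K) (R : GL chevE6.Idx K) :
    X 51 u * (D 45 59 t t' * R) = D 45 59 t t' * (X 51 u * R) :=
  flip (commute_XD (by decide +kernel) _ _ _) R

theorem o12_11 (t t' u u' : K) (R : GL chevE6.Idx K) :
    D 49 61 u u' * (D 45 59 t t' * R) = D 45 59 t t' * (D 49 61 u u' * (D 66 68 (t' * u) (t * u') * R)) := by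
  simp only [D, mul_assoc, merge, q49_45, q49_59, q61_45, q61_59, q66_61, q68_59]
  all_goals ring_nf

theorem o13_11 (t t' u : K) (R : GL chevE6.Idx K) :
    X 53 u * (D 45 59 t t' * R) = D 45 59 t t' * (X 53 u * R) :=
  flip (commute_XD (by decide +kernel) _ _ _) R

theorem o15_11 (t t' u u' : K) (R : GL chevE6.Idx K) :
    D 52 62 u u' * (D 45 59 t t' * R) = D 45 59 t t' * (D 52 62 u u' * (X 69 (t * u' + t' * u) * R)) := by
  simp only [D, mul_assoc, merge, q52_45, q52_59, q62_45, q62_59, q69_59, q69_62]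
  all_goals ring_nf

theorem o16_11 (t t' u : K) (R : GL chevE6.Idx K) :
    X 63 u * (D 45 59 t t' * R) = D 45 59 t t' * (X 63 u * R) :=
  flip (commute_XD (by decide +kernel) _ _ _) R

theorem o17_11 (t t' u u' : K) (R : GL chevE6.Idx K) :
    D 54 64 u u' * (D 45 59 t t' * R) = D 45 59 t t' * (D 54 64 u u' * (X 70 (t * u' + t' * u) * R)) := by
  simp only [D, mul_assoc, merge, q54_45, q54_59, q64_45, q64_59, q70_59, q70_64]
  all_goals ring_nf

theorem o18_11 (t t' u : K) (R : GL chevE6.Idx K) :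
    X 65 u * (D 45 59 t t' * R) = D 45 59 t t' * (X 65 u * R) :=
  flip (commute_XD (by decide +kernel) _ _ _) R

theorem o19_11 (t t' u u' : K) (R : GL chevE6.Idx K) :
    D 55 67 u u' * (D 45 59 t t' * R) = D 45 59 t t' * (D 55 67 u u' * R) :=
  flip (commute_DD (by decide +kernel) _ _ _ _) R

theorem o20_11 (t t' u u' : K) (R : GL chevE6.Idx K) :
    D 66 68 u u' * (D 45 59 t t' * R) = D 45 59 t t' * (D 66 68 u u' * R) :=
  flip (commute_DD (by decide +kernel) _ _ _ _) R

theorem o21_11 (t t' u : K) (R : GL chevE6.Idx K) :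
    X 69 u * (D 45 59 t t' * R) = D 45 59 t t' * (X 69 u * R) :=
  flip (commute_XD (by decide +kernel) _ _ _) R

theorem o22_11 (t t' u : K) (R : GL chevE6.Idx K) :
    X 70 u * (D 45 59 t t' * R) = D 45 59 t t' * (X 70 u * R) :=
  flip (commute_XD (by decide +kernel) _ _ _) R

theorem o23_11 (t t' u : K) (R : GL chevE6.Idx K) :
    X 71 u * (D 45 59 t t' * R) = D 45 59 t t' * (X 71 u * R) :=
  flip (commute_XD (by decide +kernel) _ _ _) R

theorem o1_14 (t u : K) (R : GL chevE6.Idx K) :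
    X 46 u * (X 60 t * R) = X 60 t * (X 46 u * (X 63 (t * u) * R)) := by
  simp only [D, mul_assoc, merge, q46_60]
  all_goals ring_nf

theorem o4_14 (t u : K) (R : GL chevE6.Idx K) :
    X 47 u * (X 60 t * R) = X 60 t * (X 47 u * (X 65 (t * u) * R)) := by
  simp only [D, mul_assoc, merge, q47_60]
  all_goals ring_nf

theorem o9_14 (t u u' : K) (R : GL chevE6.Idx K) :
    D 48 50 u u' * (X 60 t * R) = X 60 t * (D 48 50 u u' * (D 66 68 (t * u) (t * u') * (X 71 (t * u * u') * R))) := by
  simp only [D, mul_assoc, merge, q48_60, q50_60, q66_50, q71_68]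
  all_goals ring_nf

theorem o10_14 (t u : K) (R : GL chevE6.Idx K) :
    X 51 u * (X 60 t * R) = X 60 t * (X 51 u * (X 69 (t * u) * R)) := by
  simp only [D, mul_assoc, merge, q51_60]
  all_goals ring_nf

theorem o12_14 (t u u' : K) (R : GL chevE6.Idx K) :
    D 49 61 u u' * (X 60 t * R) = X 60 t * (D 49 61 u u' * R) :=
  flip (commute_XD (by decide +kernel) _ _ _).symm R

theorem o13_14 (t u : K) (R : GL chevE6.Idx K) :
    X 53 u * (X 60 t * R) = X 60 t * (X 53 u * (X 70 (t * u) * R)) := by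
  simp only [D, mul_assoc, merge, q53_60]
  all_goals ring_nf

theorem o15_14 (t u u' : K) (R : GL chevE6.Idx K) :
    D 52 62 u u' * (X 60 t * R) = X 60 t * (D 52 62 u u' * R) :=
  flip (commute_XD (by decide +kernel) _ _ _).symm R

theorem o16_14 (t u : K) (R : GL chevE6.Idx K) :
    X 63 u * (X 60 t * R) = X 60 t * (X 63 u * R) :=
  flip (commute_X (by decide +kernel) _ _) R

theorem o17_14 (t u u' : K) (R : GL chevE6.Idx K) :
    D 54 64 u u' * (X 60 t * R) = X 60 t * (D 54 64 u u' * R) :=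
  flip (commute_XD (by decide +kernel) _ _ _).symm R

theorem o18_14 (t u : K) (R : GL chevE6.Idx K) :
    X 65 u * (X 60 t * R) = X 60 t * (X 65 u * R) :=
  flip (commute_X (by decide +kernel) _ _) R

theorem o19_14 (t u u' : K) (R : GL chevE6.Idx K) :
    D 55 67 u u' * (X 60 t * R) = X 60 t * (D 55 67 u u' * R) :=
  flip (commute_XD (by decide +kernel) _ _ _).symm R

theorem o20_14 (t u u' : K) (R : GL chevE6.Idx K) :
    D 66 68 u u' * (X 60 t * R) = X 60 t * (D 66 68 u u' * R) :=
  flip (commute_XD (by decide +kernel) _ _ _).symm R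

theorem o21_14 (t u : K) (R : GL chevE6.Idx K) :
    X 69 u * (X 60 t * R) = X 60 t * (X 69 u * R) :=
  flip (commute_X (by decide +kernel) _ _) R

theorem o22_14 (t u : K) (R : GL chevE6.Idx K) :
    X 70 u * (X 60 t * R) = X 60 t * (X 70 u * R) :=
  flip (commute_X (by decide +kernel) _ _) R

theorem o23_14 (t u : K) (R : GL chevE6.Idx K) :
    X 71 u * (X 60 t * R) = X 60 t * (X 71 u * R) :=
  flip (commute_X (by decide +kernel) _ _) R

theorem o4_1 (t u : K) (R : GL chevE6.Idx K) :
    X 47 u * (X 46 t * R) = X 46 t * (X 47 u * R) :=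
  flip (commute_X (by decide +kernel) _ _) R

theorem o9_1 (t u u' : K) (R : GL chevE6.Idx K) :
    D 48 50 u u' * (X 46 t * R) = X 46 t * (D 48 50 u u' * R) :=
  flip (commute_XD (by decide +kernel) _ _ _).symm R

theorem o10_1 (t u : K) (R : GL chevE6.Idx K) :
    X 51 u * (X 46 t * R) = X 46 t * (X 51 u * R) :=
  flip (commute_X (by decide +kernel) _ _) R

theorem o12_1 (t u u' : K) (R : GL chevE6.Idx K) :
    D 49 61 u u' * (X 46 t * R) = X 46 t * (D 49 61 u u' * R) :=
  flip (commute_XD (by decide +kernel) _ _ _).symm R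

theorem o13_1 (t u : K) (R : GL chevE6.Idx K) :
    X 53 u * (X 46 t * R) = X 46 t * (X 53 u * R) :=
  flip (commute_X (by decide +kernel) _ _) R

theorem o15_1 (t u u' : K) (R : GL chevE6.Idx K) :
    D 52 62 u u' * (X 46 t * R) = X 46 t * (D 52 62 u u' * R) :=
  flip (commute_XD (by decide +kernel) _ _ _).symm R

theorem o16_1 (t u : K) (R : GL chevE6.Idx K) :
    X 63 u * (X 46 t * R) = X 46 t * (X 63 u * R) :=
  flip (commute_X (by decide +kernel) _ _) R

theorem o17_1 (t u u' : K) (R : GL chevE6.Idx K) :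
    D 54 64 u u' * (X 46 t * R) = X 46 t * (D 54 64 u u' * R) :=
  flip (commute_XD (by decide +kernel) _ _ _).symm R

theorem o18_1 (t u : K) (R : GL chevE6.Idx K) :
    X 65 u * (X 46 t * R) = X 46 t * (X 65 u * R) :=
  flip (commute_X (by decide +kernel) _ _) R

theorem o19_1 (t u u' : K) (R : GL chevE6.Idx K) :
    D 55 67 u u' * (X 46 t * R) = X 46 t * (D 55 67 u u' * R) :=
  flip (commute_XD (by decide +kernel) _ _ _).symm R

theorem o20_1 (t u u' : K) (R : GL chevE6.Idx K) :
    D 66 68 u u' * (X 46 t * R) = X 46 t * (D 66 68 u u' * R) :=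
  flip (commute_XD (by decide +kernel) _ _ _).symm R

theorem o21_1 (t u : K) (R : GL chevE6.Idx K) :
    X 69 u * (X 46 t * R) = X 46 t * (X 69 u * R) :=
  flip (commute_X (by decide +kernel) _ _) R

theorem o22_1 (t u : K) (R : GL chevE6.Idx K) :
    X 70 u * (X 46 t * R) = X 46 t * (X 70 u * (X 71 (t * u) * R)) := by
  simp only [D, mul_assoc, merge, q70_46]
  all_goals ring_nf

theorem o23_1 (t u : K) (R : GL chevE6.Idx K) :
    X 71 u * (X 46 t * R) = X 46 t * (X 71 u * R) :=
  flip (commute_X (by decide +kernel) _ _) R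

theorem o9_4 (t u u' : K) (R : GL chevE6.Idx K) :
    D 48 50 u u' * (X 47 t * R) = X 47 t * (D 48 50 u u' * R) :=
  flip (commute_XD (by decide +kernel) _ _ _).symm R

theorem o10_4 (t u : K) (R : GL chevE6.Idx K) :
    X 51 u * (X 47 t * R) = X 47 t * (X 51 u * R) :=
  flip (commute_X (by decide +kernel) _ _) R

theorem o12_4 (t u u' : K) (R : GL chevE6.Idx K) :
    D 49 61 u u' * (X 47 t * R) = X 47 t * (D 49 61 u u' * R) :=
  flip (commute_XD (by decide +kernel) _ _ _).symm R

theorem o13_4 (t u : K) (R : GL chevE6.Idx K) :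
    X 53 u * (X 47 t * R) = X 47 t * (X 53 u * R) :=
  flip (commute_X (by decide +kernel) _ _) R

theorem o15_4 (t u u' : K) (R : GL chevE6.Idx K) :
    D 52 62 u u' * (X 47 t * R) = X 47 t * (D 52 62 u u' * R) :=
  flip (commute_XD (by decide +kernel) _ _ _).symm R

theorem o16_4 (t u : K) (R : GL chevE6.Idx K) :
    X 63 u * (X 47 t * R) = X 47 t * (X 63 u * R) :=
  flip (commute_X (by decide +kernel) _ _) R

theorem o17_4 (t u u' : K) (R : GL chevE6.Idx K) :
    D 54 64 u u' * (X 47 t * R) = X 47 t * (D 54 64 u u' * R) :=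
  flip (commute_XD (by decide +kernel) _ _ _).symm R

theorem o18_4 (t u : K) (R : GL chevE6.Idx K) :
    X 65 u * (X 47 t * R) = X 47 t * (X 65 u * R) :=
  flip (commute_X (by decide +kernel) _ _) R

theorem o19_4 (t u u' : K) (R : GL chevE6.Idx K) :
    D 55 67 u u' * (X 47 t * R) = X 47 t * (D 55 67 u u' * R) :=
  flip (commute_XD (by decide +kernel) _ _ _).symm R

theorem o20_4 (t u u' : K) (R : GL chevE6.Idx K) :
    D 66 68 u u' * (X 47 t * R) = X 47 t * (D 66 68 u u' * R) :=
  flip (commute_XD (by decide +kernel) _ _ _).symm R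

theorem o21_4 (t u : K) (R : GL chevE6.Idx K) :
    X 69 u * (X 47 t * R) = X 47 t * (X 69 u * (X 71 (t * u) * R)) := by
  simp only [D, mul_assoc, merge, q69_47]
  all_goals ring_nf

theorem o22_4 (t u : K) (R : GL chevE6.Idx K) :
    X 70 u * (X 47 t * R) = X 47 t * (X 70 u * R) :=
  flip (commute_X (by decide +kernel) _ _) R

theorem o23_4 (t u : K) (R : GL chevE6.Idx K) :
    X 71 u * (X 47 t * R) = X 47 t * (X 71 u * R) :=
  flip (commute_X (by decide +kernel) _ _) R

theorem o10_9 (t t' u : K) (R : GL chevE6.Idx K) :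
    X 51 u * (D 48 50 t t' * R) = D 48 50 t t' * (X 51 u * R) :=
  flip (commute_XD (by decide +kernel) _ _ _) R

theorem o12_9 (t t' u u' : K) (R : GL chevE6.Idx K) :
    D 49 61 u u' * (D 48 50 t t' * R) = D 48 50 t t' * (D 49 61 u u' * R) :=
  flip (commute_DD (by decide +kernel) _ _ _ _) R

theorem o13_9 (t t' u : K) (R : GL chevE6.Idx K) :
    X 53 u * (D 48 50 t t' * R) = D 48 50 t t' * (X 53 u * R) :=
  flip (commute_XD (by decide +kernel) _ _ _) R

theorem o15_9 (t t' u u' : K) (R : GL chevE6.Idx K) :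
    D 52 62 u u' * (D 48 50 t t' * R) = D 48 50 t t' * (D 52 62 u u' * R) :=
  flip (commute_DD (by decide +kernel) _ _ _ _) R

theorem o16_9 (t t' u : K) (R : GL chevE6.Idx K) :
    X 63 u * (D 48 50 t t' * R) = D 48 50 t t' * (X 63 u * R) :=
  flip (commute_XD (by decide +kernel) _ _ _) R

theorem o17_9 (t t' u u' : K) (R : GL chevE6.Idx K) :
    D 54 64 u u' * (D 48 50 t t' * R) = D 48 50 t t' * (D 54 64 u u' * R) :=
  flip (commute_DD (by decide +kernel) _ _ _ _) R

theorem o18_9 (t t' u : K) (R : GL chevE6.Idx K) :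
    X 65 u * (D 48 50 t t' * R) = D 48 50 t t' * (X 65 u * R) :=
  flip (commute_XD (by decide +kernel) _ _ _) R

theorem o19_9 (t t' u u' : K) (R : GL chevE6.Idx K) :
    D 55 67 u u' * (D 48 50 t t' * R) = D 48 50 t t' * (D 55 67 u u' * R) :=
  flip (commute_DD (by decide +kernel) _ _ _ _) R

theorem o20_9 (t t' u u' : K) (R : GL chevE6.Idx K) :
    D 66 68 u u' * (D 48 50 t t' * R) = D 48 50 t t' * (D 66 68 u u' * (X 71 (t * u' + t' * u) * R)) := by
  simp only [D, mul_assoc, merge, q66_48, q66_50, q68_48, q68_50, q71_50, q71_68]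
  all_goals ring_nf

theorem o21_9 (t t' u : K) (R : GL chevE6.Idx K) :
    X 69 u * (D 48 50 t t' * R) = D 48 50 t t' * (X 69 u * R) :=
  flip (commute_XD (by decide +kernel) _ _ _) R

theorem o22_9 (t t' u : K) (R : GL chevE6.Idx K) :
    X 70 u * (D 48 50 t t' * R) = D 48 50 t t' * (X 70 u * R) :=
  flip (commute_XD (by decide +kernel) _ _ _) R

theorem o23_9 (t t' u : K) (R : GL chevE6.Idx K) :
    X 71 u * (D 48 50 t t' * R) = D 48 50 t t' * (X 71 u * R) :=
  flip (commute_XD (by decide +kernel) _ _ _) R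

theorem o12_10 (t u u' : K) (R : GL chevE6.Idx K) :
    D 49 61 u u' * (X 51 t * R) = X 51 t * (D 49 61 u u' * R) :=
  flip (commute_XD (by decide +kernel) _ _ _).symm R

theorem o13_10 (t u : K) (R : GL chevE6.Idx K) :
    X 53 u * (X 51 t * R) = X 51 t * (X 53 u * R) :=
  flip (commute_X (by decide +kernel) _ _) R

theorem o15_10 (t u u' : K) (R : GL chevE6.Idx K) :
    D 52 62 u u' * (X 51 t * R) = X 51 t * (D 52 62 u u' * R) :=
  flip (commute_XD (by decide +kernel) _ _ _).symm R

theorem o16_10 (t u : K) (R : GL chevE6.Idx K) :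
    X 63 u * (X 51 t * R) = X 51 t * (X 63 u * R) :=
  flip (commute_X (by decide +kernel) _ _) R

theorem o17_10 (t u u' : K) (R : GL chevE6.Idx K) :
    D 54 64 u u' * (X 51 t * R) = X 51 t * (D 54 64 u u' * R) :=
  flip (commute_XD (by decide +kernel) _ _ _).symm R

theorem o18_10 (t u : K) (R : GL chevE6.Idx K) :
    X 65 u * (X 51 t * R) = X 51 t * (X 65 u * (X 71 (t * u) * R)) := by
  simp only [D, mul_assoc, merge, q65_51]
  all_goals ring_nf

theorem o19_10 (t u u' : K) (R : GL chevE6.Idx K) :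
    D 55 67 u u' * (X 51 t * R) = X 51 t * (D 55 67 u u' * R) :=
  flip (commute_XD (by decide +kernel) _ _ _).symm R

theorem o20_10 (t u u' : K) (R : GL chevE6.Idx K) :
    D 66 68 u u' * (X 51 t * R) = X 51 t * (D 66 68 u u' * R) :=
  flip (commute_XD (by decide +kernel) _ _ _).symm R

theorem o21_10 (t u : K) (R : GL chevE6.Idx K) :
    X 69 u * (X 51 t * R) = X 51 t * (X 69 u * R) :=
  flip (commute_X (by decide +kernel) _ _) R

theorem o22_10 (t u : K) (R : GL chevE6.Idx K) :
    X 70 u * (X 51 t * R) = X 51 t * (X 70 u * R) :=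
  flip (commute_X (by decide +kernel) _ _) R

theorem o23_10 (t u : K) (R : GL chevE6.Idx K) :
    X 71 u * (X 51 t * R) = X 51 t * (X 71 u * R) :=
  flip (commute_X (by decide +kernel) _ _) R

theorem o13_12 (t t' u : K) (R : GL chevE6.Idx K) :
    X 53 u * (D 49 61 t t' * R) = D 49 61 t t' * (X 53 u * R) :=
  flip (commute_XD (by decide +kernel) _ _ _) R

theorem o15_12 (t t' u u' : K) (R : GL chevE6.Idx K) :
    D 52 62 u u' * (D 49 61 t t' * R) = D 49 61 t t' * (D 52 62 u u' * R) :=
  flip (commute_DD (by decide +kernel) _ _ _ _) R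

theorem o16_12 (t t' u : K) (R : GL chevE6.Idx K) :
    X 63 u * (D 49 61 t t' * R) = D 49 61 t t' * (X 63 u * R) :=
  flip (commute_XD (by decide +kernel) _ _ _) R

theorem o17_12 (t t' u u' : K) (R : GL chevE6.Idx K) :
    D 54 64 u u' * (D 49 61 t t' * R) = D 49 61 t t' * (D 54 64 u u' * R) :=
  flip (commute_DD (by decide +kernel) _ _ _ _) R

theorem o18_12 (t t' u : K) (R : GL chevE6.Idx K) :
    X 65 u * (D 49 61 t t' * R) = D 49 61 t t' * (X 65 u * R) :=
  flip (commute_XD (by decide +kernel) _ _ _) R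

theorem o19_12 (t t' u u' : K) (R : GL chevE6.Idx K) :
    D 55 67 u u' * (D 49 61 t t' * R) = D 49 61 t t' * (D 55 67 u u' * (X 71 (t * u' + t' * u) * R)) := by
  simp only [D, mul_assoc, merge, q55_49, q55_61, q67_49, q67_61, q71_61, q71_67]
  all_goals ring_nf

theorem o20_12 (t t' u u' : K) (R : GL chevE6.Idx K) :
    D 66 68 u u' * (D 49 61 t t' * R) = D 49 61 t t' * (D 66 68 u u' * R) :=
  flip (commute_DD (by decide +kernel) _ _ _ _) R

theorem o21_12 (t t' u : K) (R : GL chevE6.Idx K) :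
    X 69 u * (D 49 61 t t' * R) = D 49 61 t t' * (X 69 u * R) :=
  flip (commute_XD (by decide +kernel) _ _ _) R

theorem o22_12 (t t' u : K) (R : GL chevE6.Idx K) :
    X 70 u * (D 49 61 t t' * R) = D 49 61 t t' * (X 70 u * R) :=
  flip (commute_XD (by decide +kernel) _ _ _) R

theorem o23_12 (t t' u : K) (R : GL chevE6.Idx K) :
    X 71 u * (D 49 61 t t' * R) = D 49 61 t t' * (X 71 u * R) :=
  flip (commute_XD (by decide +kernel) _ _ _) R

theorem o15_13 (t u u' : K) (R : GL chevE6.Idx K) :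
    D 52 62 u u' * (X 53 t * R) = X 53 t * (D 52 62 u u' * R) :=
  flip (commute_XD (by decide +kernel) _ _ _).symm R

theorem o16_13 (t u : K) (R : GL chevE6.Idx K) :
    X 63 u * (X 53 t * R) = X 53 t * (X 63 u * (X 71 (t * u) * R)) := by
  simp only [D, mul_assoc, merge, q63_53]
  all_goals ring_nf

theorem o17_13 (t u u' : K) (R : GL chevE6.Idx K) :
    D 54 64 u u' * (X 53 t * R) = X 53 t * (D 54 64 u u' * R) :=
  flip (commute_XD (by decide +kernel) _ _ _).symm R

theorem o18_13 (t u : K) (R : GL chevE6.Idx K) :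
    X 65 u * (X 53 t * R) = X 53 t * (X 65 u * R) :=
  flip (commute_X (by decide +kernel) _ _) R

theorem o19_13 (t u u' : K) (R : GL chevE6.Idx K) :
    D 55 67 u u' * (X 53 t * R) = X 53 t * (D 55 67 u u' * R) :=
  flip (commute_XD (by decide +kernel) _ _ _).symm R

theorem o20_13 (t u u' : K) (R : GL chevE6.Idx K) :
    D 66 68 u u' * (X 53 t * R) = X 53 t * (D 66 68 u u' * R) :=
  flip (commute_XD (by decide +kernel) _ _ _).symm R

theorem o21_13 (t u : K) (R : GL chevE6.Idx K) :
    X 69 u * (X 53 t * R) = X 53 t * (X 69 u * R) :=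
  flip (commute_X (by decide +kernel) _ _) R

theorem o22_13 (t u : K) (R : GL chevE6.Idx K) :
    X 70 u * (X 53 t * R) = X 53 t * (X 70 u * R) :=
  flip (commute_X (by decide +kernel) _ _) R

theorem o23_13 (t u : K) (R : GL chevE6.Idx K) :
    X 71 u * (X 53 t * R) = X 53 t * (X 71 u * R) :=
  flip (commute_X (by decide +kernel) _ _) R

theorem o16_15 (t t' u : K) (R : GL chevE6.Idx K) :
    X 63 u * (D 52 62 t t' * R) = D 52 62 t t' * (X 63 u * R) :=
  flip (commute_XD (by decide +kernel) _ _ _) R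

theorem o17_15 (t t' u u' : K) (R : GL chevE6.Idx K) :
    D 54 64 u u' * (D 52 62 t t' * R) = D 52 62 t t' * (D 54 64 u u' * (X 71 (t * u' + t' * u) * R)) := by
  simp only [D, mul_assoc, merge, q54_52, q54_62, q64_52, q64_62, q71_62, q71_64]
  all_goals ring_nf

theorem o18_15 (t t' u : K) (R : GL chevE6.Idx K) :
    X 65 u * (D 52 62 t t' * R) = D 52 62 t t' * (X 65 u * R) :=
  flip (commute_XD (by decide +kernel) _ _ _) R

theorem o19_15 (t t' u u' : K) (R : GL chevE6.Idx K) :
    D 55 67 u u' * (D 52 62 t t' * R) = D 52 62 t t' * (D 55 67 u u' * R) :=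
  flip (commute_DD (by decide +kernel) _ _ _ _) R

theorem o20_15 (t t' u u' : K) (R : GL chevE6.Idx K) :
    D 66 68 u u' * (D 52 62 t t' * R) = D 52 62 t t' * (D 66 68 u u' * R) :=
  flip (commute_DD (by decide +kernel) _ _ _ _) R

theorem o21_15 (t t' u : K) (R : GL chevE6.Idx K) :
    X 69 u * (D 52 62 t t' * R) = D 52 62 t t' * (X 69 u * R) :=
  flip (commute_XD (by decide +kernel) _ _ _) R

theorem o22_15 (t t' u : K) (R : GL chevE6.Idx K) :
    X 70 u * (D 52 62 t t' * R) = D 52 62 t t' * (X 70 u * R) :=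
  flip (commute_XD (by decide +kernel) _ _ _) R

theorem o23_15 (t t' u : K) (R : GL chevE6.Idx K) :
    X 71 u * (D 52 62 t t' * R) = D 52 62 t t' * (X 71 u * R) :=
  flip (commute_XD (by decide +kernel) _ _ _) R

theorem o17_16 (t u u' : K) (R : GL chevE6.Idx K) :
    D 54 64 u u' * (X 63 t * R) = X 63 t * (D 54 64 u u' * R) :=
  flip (commute_XD (by decide +kernel) _ _ _).symm R

theorem o18_16 (t u : K) (R : GL chevE6.Idx K) :
    X 65 u * (X 63 t * R) = X 63 t * (X 65 u * R) :=
  flip (commute_X (by decide +kernel) _ _) R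

theorem o19_16 (t u u' : K) (R : GL chevE6.Idx K) :
    D 55 67 u u' * (X 63 t * R) = X 63 t * (D 55 67 u u' * R) :=
  flip (commute_XD (by decide +kernel) _ _ _).symm R

theorem o20_16 (t u u' : K) (R : GL chevE6.Idx K) :
    D 66 68 u u' * (X 63 t * R) = X 63 t * (D 66 68 u u' * R) :=
  flip (commute_XD (by decide +kernel) _ _ _).symm R

theorem o21_16 (t u : K) (R : GL chevE6.Idx K) :
    X 69 u * (X 63 t * R) = X 63 t * (X 69 u * R) :=
  flip (commute_X (by decide +kernel) _ _) R

theorem o22_16 (t u : K) (R : GL chevE6.Idx K) :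
    X 70 u * (X 63 t * R) = X 63 t * (X 70 u * R) :=
  flip (commute_X (by decide +kernel) _ _) R

theorem o23_16 (t u : K) (R : GL chevE6.Idx K) :
    X 71 u * (X 63 t * R) = X 63 t * (X 71 u * R) :=
  flip (commute_X (by decide +kernel) _ _) R

theorem o18_17 (t t' u : K) (R : GL chevE6.Idx K) :
    X 65 u * (D 54 64 t t' * R) = D 54 64 t t' * (X 65 u * R) :=
  flip (commute_XD (by decide +kernel) _ _ _) R

theorem o19_17 (t t' u u' : K) (R : GL chevE6.Idx K) :
    D 55 67 u u' * (D 54 64 t t' * R) = D 54 64 t t' * (D 55 67 u u' * R) :=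
  flip (commute_DD (by decide +kernel) _ _ _ _) R

theorem o20_17 (t t' u u' : K) (R : GL chevE6.Idx K) :
    D 66 68 u u' * (D 54 64 t t' * R) = D 54 64 t t' * (D 66 68 u u' * R) :=
  flip (commute_DD (by decide +kernel) _ _ _ _) R

theorem o21_17 (t t' u : K) (R : GL chevE6.Idx K) :
    X 69 u * (D 54 64 t t' * R) = D 54 64 t t' * (X 69 u * R) :=
  flip (commute_XD (by decide +kernel) _ _ _) R

theorem o22_17 (t t' u : K) (R : GL chevE6.Idx K) :
    X 70 u * (D 54 64 t t' * R) = D 54 64 t t' * (X 70 u * R) :=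
  flip (commute_XD (by decide +kernel) _ _ _) R

theorem o23_17 (t t' u : K) (R : GL chevE6.Idx K) :
    X 71 u * (D 54 64 t t' * R) = D 54 64 t t' * (X 71 u * R) :=
  flip (commute_XD (by decide +kernel) _ _ _) R

theorem o19_18 (t u u' : K) (R : GL chevE6.Idx K) :
    D 55 67 u u' * (X 65 t * R) = X 65 t * (D 55 67 u u' * R) :=
  flip (commute_XD (by decide +kernel) _ _ _).symm R

theorem o20_18 (t u u' : K) (R : GL chevE6.Idx K) :
    D 66 68 u u' * (X 65 t * R) = X 65 t * (D 66 68 u u' * R) :=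
  flip (commute_XD (by decide +kernel) _ _ _).symm R

theorem o21_18 (t u : K) (R : GL chevE6.Idx K) :
    X 69 u * (X 65 t * R) = X 65 t * (X 69 u * R) :=
  flip (commute_X (by decide +kernel) _ _) R

theorem o22_18 (t u : K) (R : GL chevE6.Idx K) :
    X 70 u * (X 65 t * R) = X 65 t * (X 70 u * R) :=
  flip (commute_X (by decide +kernel) _ _) R

theorem o23_18 (t u : K) (R : GL chevE6.Idx K) :
    X 71 u * (X 65 t * R) = X 65 t * (X 71 u * R) :=
  flip (commute_X (by decide +kernel) _ _) R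

theorem o20_19 (t t' u u' : K) (R : GL chevE6.Idx K) :
    D 66 68 u u' * (D 55 67 t t' * R) = D 55 67 t t' * (D 66 68 u u' * R) :=
  flip (commute_DD (by decide +kernel) _ _ _ _) R

theorem o21_19 (t t' u : K) (R : GL chevE6.Idx K) :
    X 69 u * (D 55 67 t t' * R) = D 55 67 t t' * (X 69 u * R) :=
  flip (commute_XD (by decide +kernel) _ _ _) R

theorem o22_19 (t t' u : K) (R : GL chevE6.Idx K) :
    X 70 u * (D 55 67 t t' * R) = D 55 67 t t' * (X 70 u * R) :=
  flip (commute_XD (by decide +kernel) _ _ _) R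

theorem o23_19 (t t' u : K) (R : GL chevE6.Idx K) :
    X 71 u * (D 55 67 t t' * R) = D 55 67 t t' * (X 71 u * R) :=
  flip (commute_XD (by decide +kernel) _ _ _) R

theorem o21_20 (t t' u : K) (R : GL chevE6.Idx K) :
    X 69 u * (D 66 68 t t' * R) = D 66 68 t t' * (X 69 u * R) :=
  flip (commute_XD (by decide +kernel) _ _ _) R

theorem o22_20 (t t' u : K) (R : GL chevE6.Idx K) :
    X 70 u * (D 66 68 t t' * R) = D 66 68 t t' * (X 70 u * R) :=
  flip (commute_XD (by decide +kernel) _ _ _) R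

theorem o23_20 (t t' u : K) (R : GL chevE6.Idx K) :
    X 71 u * (D 66 68 t t' * R) = D 66 68 t t' * (X 71 u * R) :=
  flip (commute_XD (by decide +kernel) _ _ _) R

theorem o22_21 (t u : K) (R : GL chevE6.Idx K) :
    X 70 u * (X 69 t * R) = X 69 t * (X 70 u * R) :=
  flip (commute_X (by decide +kernel) _ _) R

theorem o23_21 (t u : K) (R : GL chevE6.Idx K) :
    X 71 u * (X 69 t * R) = X 69 t * (X 71 u * R) :=
  flip (commute_X (by decide +kernel) _ _) R

theorem o23_22 (t u : K) (R : GL chevE6.Idx K) :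
    X 71 u * (X 70 t * R) = X 70 t * (X 71 u * R) :=
  flip (commute_X (by decide +kernel) _ _) R

theorem m36 (t t' u u' : K) (R : GL chevE6.Idx K) :
    D 36 56 t t' * (D 36 56 u u' * R) = D 36 56 (t + u) (t' + u') * R :=
  mergeD (by decide +kernel) _ _ _ _ R

theorem m37 (t t' u u' : K) (R : GL chevE6.Idx K) :
    D 37 42 t t' * (D 37 42 u u' * R) = D 37 42 (t + u) (t' + u') * R :=
  mergeD (by decide +kernel) _ _ _ _ R

theorem m38 (t t' u u' : K) (R : GL chevE6.Idx K) :
    D 38 57 t t' * (D 38 57 u u' * R) = D 38 57 (t + u) (t' + u') * R :=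
  mergeD (by decide +kernel) _ _ _ _ R

theorem m40 (t t' u u' : K) (R : GL chevE6.Idx K) :
    D 40 43 t t' * (D 40 43 u u' * R) = D 40 43 (t + u) (t' + u') * R :=
  mergeD (by decide +kernel) _ _ _ _ R

theorem m41 (t t' u u' : K) (R : GL chevE6.Idx K) :
    D 41 58 t t' * (D 41 58 u u' * R) = D 41 58 (t + u) (t' + u') * R :=
  mergeD (by decide +kernel) _ _ _ _ R

theorem m48 (t t' u u' : K) (R : GL chevE6.Idx K) :
    D 48 50 t t' * (D 48 50 u u' * R) = D 48 50 (t + u) (t' + u') * R :=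
  mergeD (by decide +kernel) _ _ _ _ R

theorem m45 (t t' u u' : K) (R : GL chevE6.Idx K) :
    D 45 59 t t' * (D 45 59 u u' * R) = D 45 59 (t + u) (t' + u') * R :=
  mergeD (by decide +kernel) _ _ _ _ R

theorem m49 (t t' u u' : K) (R : GL chevE6.Idx K) :
    D 49 61 t t' * (D 49 61 u u' * R) = D 49 61 (t + u) (t' + u') * R :=
  mergeD (by decide +kernel) _ _ _ _ R

theorem m52 (t t' u u' : K) (R : GL chevE6.Idx K) :
    D 52 62 t t' * (D 52 62 u u' * R) = D 52 62 (t + u) (t' + u') * R :=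
  mergeD (by decide +kernel) _ _ _ _ R

theorem m54 (t t' u u' : K) (R : GL chevE6.Idx K) :
    D 54 64 t t' * (D 54 64 u u' * R) = D 54 64 (t + u) (t' + u') * R :=
  mergeD (by decide +kernel) _ _ _ _ R

theorem m55 (t t' u u' : K) (R : GL chevE6.Idx K) :
    D 55 67 t t' * (D 55 67 u u' * R) = D 55 67 (t + u) (t' + u') * R :=
  mergeD (by decide +kernel) _ _ _ _ R

theorem m66 (t t' u u' : K) (R : GL chevE6.Idx K) :
    D 66 68 t t' * (D 66 68 u u' * R) = D 66 68 (t + u) (t' + u') * R :=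
  mergeD (by decide +kernel) _ _ _ _ R

/-- Normalisation of products in `U`. -/
macro "e6_norm" : tactic => `(tactic| simp only [mul_assoc, one_mul, merge, mul_zero, zero_mul, add_zero, zero_add, CharTwo.add_self_eq_zero, m36, m37, m38, m40, m41, m48, m45, m49, m52, m54, m55, m66, o3_2, o5_2, o0_2, o6_2, o7_2, o8_2, o11_2, o14_2, o1_2, o4_2, o9_2, o10_2, o12_2, o13_2, o15_2, o16_2, o17_2, o18_2, o19_2, o20_2, o21_2, o22_2, o23_2, o5_3, o0_3, o6_3, o7_3, o8_3, o11_3, o14_3, o1_3, o4_3, o9_3, o10_3, o12_3, o13_3, o15_3, o16_3, o17_3, o18_3, o19_3, o20_3, o21_3, o22_3, o23_3, o0_5, o6_5, o7_5, o8_5, o11_5, o14_5, o1_5, o4_5, o9_5, o10_5, o12_5, o13_5, o15_5, o16_5, o17_5, o18_5, o19_5, o20_5, o21_5, o22_5, o23_5, o6_0, o7_0, o8_0, o11_0, o14_0, o1_0, o4_0, o9_0, o10_0, o12_0, o13_0, o15_0, o16_0, o17_0, o18_0, o19_0, o20_0, o21_0, o22_0, o23_0, o7_6, o8_6, o11_6, o14_6, o1_6, o4_6, o9_6, o10_6, o12_6, o13_6, o15_6, o16_6, o17_6, o18_6, o19_6, o20_6, o21_6, o22_6, o23_6, o8_7,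 o11_7, o14_7, o1_7, o4_7, o9_7, o10_7, o12_7, o13_7, o15_7, o16_7, o17_7, o18_7, o19_7, o20_7, o21_7, o22_7, o23_7, o11_8, o14_8, o1_8, o4_8, o9_8, o10_8, o12_8, o13_8, o15_8, o16_8, o17_8, o18_8, o19_8, o20_8, o21_8, o22_8, o23_8, o14_11, o1_11, o4_11, o9_11, o10_11, o12_11, o13_11, o15_11, o16_11, o17_11, o18_11, o19_11, o20_11, o21_11, o22_11, o23_11, o1_14, o4_14, o9_14, o10_14, o12_14, o13_14, o15_14, o16_14, o17_14, o18_14, o19_14, o20_14, o21_14, o22_14, o23_14, o4_1, o9_1, o10_1, o12_1, o13_1, o15_1, o16_1, o17_1, o18_1, o19_1, o20_1, o21_1, o22_1, o23_1, o9_4, o10_4, o12_4, o13_4, o15_4, o16_4, o17_4, o18_4, o19_4, o20_4, o21_4, o22_4, o23_4, o10_9, o12_9, o13_9, o15_9, o16_9, o17_9, o18_9, o19_9, o20_9, o21_9, o22_9, o23_9, o12_10, o13_10, o15_10, o16_10, o17_10, o18_10, o19_10, o20_10, o21_10, o22_10, o23_10, o13_12, o15_12, o16_12, o17_12, o18_12, o19_12, o20_12, o21_12, o22_12, o23_12, o15_13, o16_13, o17_13, o18_13, o19_13, o20_13, o21_13, o22_13, o23_13, o16_15,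 o17_15, o18_15, o19_15, o20_15, o21_15, o22_15, o23_15, o17_16, o18_16, o19_16, o20_16, o21_16, o22_16, o23_16, o18_17, o19_17, o20_17, o21_17, o22_17, o23_17, o19_18, o20_18, o21_18, o22_18, o23_18, o20_19, o21_19, o22_19, o23_19, o21_20, o22_20, o23_20, o22_21, o23_21, o23_22])
/-- Normalisation of products in `U` in a hypothesis. -/
macro "e6_norm_at" h:ident : tactic => `(tactic| simp only [mul_assoc, one_mul, merge, mul_zero, zero_mul, add_zero, zero_add, CharTwo.add_self_eq_zero, m36, m37, m38, m40, m41, m48, m45, m49, m52, m54, m55, m66, o3_2, o5_2, o0_2, o6_2, o7_2, o8_2, o11_2, o14_2, o1_2, o4_2, o9_2, o10_2, o12_2, o13_2, o15_2, o16_2, o17_2, o18_2, o19_2, o20_2, o21_2, o22_2, o23_2, o5_3, o0_3, o6_3, o7_3, o8_3, o11_3, o14_3, o1_3, o4_3, o9_3, o10_3, o12_3, o13_3, o15_3, o16_3, o17_3, o18_3, o19_3, o20_3, o21_3, o22_3, o23_3, o0_5, o6_5, o7_5, o8_5, o11_5, o14_5, o1_5, o4_5, o9_5, o10_5, o12_5, o13_5, o15_5, o16_5, o17_5, o18_5, o19_5, o20_5, o21_5, o22_5, o23_5,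 o6_0, o7_0, o8_0, o11_0, o14_0, o1_0, o4_0, o9_0, o10_0, o12_0, o13_0, o15_0, o16_0, o17_0, o18_0, o19_0, o20_0, o21_0, o22_0, o23_0, o7_6, o8_6, o11_6, o14_6, o1_6, o4_6, o9_6, o10_6, o12_6, o13_6, o15_6, o16_6, o17_6, o18_6, o19_6, o20_6, o21_6, o22_6, o23_6, o8_7, o11_7, o14_7, o1_7, o4_7, o9_7, o10_7, o12_7, o13_7, o15_7, o16_7, o17_7, o18_7, o19_7, o20_7, o21_7, o22_7, o23_7, o11_8, o14_8, o1_8, o4_8, o9_8, o10_8, o12_8, o13_8, o15_8, o16_8, o17_8, o18_8, o19_8, o20_8, o21_8, o22_8, o23_8, o14_11, o1_11, o4_11, o9_11, o10_11, o12_11, o13_11, o15_11, o16_11, o17_11, o18_11, o19_11, o20_11, o21_11, o22_11, o23_11, o1_14, o4_14, o9_14, o10_14, o12_14, o13_14, o15_14, o16_14, o17_14, o18_14, o19_14, o20_14, o21_14, o22_14, o23_14, o4_1, o9_1, o10_1, o12_1, o13_1, o15_1, o16_1, o17_1, o18_1, o19_1, o20_1, o21_1, o22_1, o23_1, o9_4, o10_4, o12_4, o13_4, o15_4, o16_4, o17_4, o18_4, o19_4, o20_4, o21_4, o22_4, o23_4, o10_9, o12_9, o13_9, o15_9, o16_9, o17_9, o18_9, o19_9, o20_9,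 o21_9, o22_9, o23_9, o12_10, o13_10, o15_10, o16_10, o17_10, o18_10, o19_10, o20_10, o21_10, o22_10, o23_10, o13_12, o15_12, o16_12, o17_12, o18_12, o19_12, o20_12, o21_12, o22_12, o23_12, o15_13, o16_13, o17_13, o18_13, o19_13, o20_13, o21_13, o22_13, o23_13, o16_15, o17_15, o18_15, o19_15, o20_15, o21_15, o22_15, o23_15, o17_16, o18_16, o19_16, o20_16, o21_16, o22_16, o23_16, o18_17, o19_17, o20_17, o21_17, o22_17, o23_17, o19_18, o20_18, o21_18, o22_18, o23_18, o20_19, o21_19, o22_19, o23_19, o21_20, o22_20, o23_20, o22_21, o23_21, o23_22] at $h:ident)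

end CfsgLib.TwistedE6Involutions
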